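import Mathlib
import Cfsg.Agent.Lib.Zassenhaus.Basic
import Cfsg.Agent.Lib.Perm.OddStabiliser

/-!
# Zassenhaus groups with two-point stabilisers of odd order

Counting of fixed-point-free elements, and the facts on involutions that hold as soon as every
element interchanging two points inverts their stabiliser.
-/

set_option autoImplicit false

namespace Cfsg.Agent.Lib.Zassenhaus.SimpleOdd

open MulAction Cfsg.Agent.Lib.Zassenhaus

variable {G Ω : Type*} [Group G] [MulAction G Ω]

/-- An element of odd order with trivial square is trivial. -/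
theorem eq_one_of_sq {A : Type*} [Group A] {y : A} (hy : Odd (orderOf y)) (h : y ^ 2 = 1) :
    y = 1 := by
  have h1 := Nat.le_of_dvd two_pos (orderOf_dvd_of_pow_eq_one h)
  obtain ⟨k, hk⟩ := hy
  exact orderOf_eq_one_iff.1 (by omega)

theorem three_le [Fintype Ω] (hZ : Cfsg.IsZassenhausGroup G Ω) : 3 ≤ Fintype.card Ω := by
  classical
  obtain ⟨hf, -, -, ⟨g, hg, a, b, hab, ha, hb⟩, -⟩ := hZ
  obtain ⟨c, hca, hcb⟩ := exists_third hg ha hb
  have h : ({a, b, c} : Finset Ω).card = 3 :=
    Finset.card_eq_three.2 ⟨a, b, c, hab, hca.symm, hcb.symm, rfl⟩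
  rw [← h]; exact Finset.card_le_univ _

theorem pair_ne_bot (hZ : Cfsg.IsZassenhausGroup G Ω) {a b : Ω} (hab : a ≠ b) :
    stabilizer G a ⊓ stabilizer G b ≠ ⊥ := by
  obtain ⟨-, h2, -, hfix, -⟩ := hZ
  obtain ⟨g, hg, ha, hb⟩ := exists_fix_pair h2 hfix hab
  intro h
  exact hg (Subgroup.mem_bot.1 (h ▸ Subgroup.mem_inf.2 ⟨ha, hb⟩))

theorem card_pair_eq (h2 : IsMultiplyPretransitive G Ω 2) {a b c d : Ω} (hab : a ≠ b)
    (hcd : c ≠ d) : Nat.card ↥(stabilizer G c ⊓ stabilizer G d) =
      Nat.card ↥(stabilizer G a ⊓ stabilizer G b) := by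
  obtain ⟨g, hg1, hg2⟩ := is_two_pretransitive_iff.1 h2 hab hcd
  refine Nat.card_congr (Equiv.subtypeEquiv (MulAut.conj g⁻¹).toEquiv fun x => ?_)
  simp only [Subgroup.mem_inf, mem_stabilizer_iff, MulEquiv.toEquiv_eq_coe, MulEquiv.coe_toEquiv,
    MulAut.conj_apply, inv_inv, mul_smul, inv_smul_eq_iff, hg1, hg2]

theorem card_stabilizer_eq [Finite G] [Fintype Ω] (h2 : IsMultiplyPretransitive G Ω 2) {a b : Ω}
    (hab : a ≠ b) : Nat.card (stabilizer G a) =
      (Fintype.card Ω - 1) * Nat.card ↥(stabilizer G a ⊓ stabilizer G b) := by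
  classical
  have horb : orbit (stabilizer G a) b = {x | x ≠ a} := by
    ext x
    constructor
    · rintro ⟨⟨g, hg⟩, rfl⟩ h
      exact hab.symm (smul_left_cancel g (h.trans (mem_stabilizer_iff.1 hg).symm))
    · intro hx
      obtain ⟨g, hga, hgb⟩ := is_two_pretransitive_iff.1 h2 hab (Ne.symm hx)
      exact ⟨⟨g, hga⟩, hgb⟩
  have h1 := (stabilizer (stabilizer G a) b).index_mul_card
  rw [index_stabilizer, horb] at h1
  have h3 : Nat.card (stabilizer (stabilizer G a) b) =
      Nat.card ↥(stabilizer G a ⊓ stabilizer G b) :=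
    Nat.card_congr
      { toFun := fun g => ⟨(g.1 : G), g.1.2, g.2⟩
        invFun := fun g => ⟨⟨g.1, g.2.1⟩, g.2.2⟩
        left_inv := fun _ => rfl
        right_inv := fun _ => rfl }
  have h4 : Set.ncard {x : Ω | x ≠ a} = Fintype.card Ω - 1 := by
    rw [← Nat.card_coe_set_eq, Nat.card_eq_fintype_card]
    exact (Fintype.card_subtype_compl (fun x => x = a)).trans (by rw [Fintype.card_subtype_eq])
  rw [← h1, h3, h4]

theorem card_group [Finite G] [Fintype Ω] (h2 : IsMultiplyPretransitive G Ω 2) {a b : Ω}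
    (hab : a ≠ b) : Nat.card G =
      Fintype.card Ω * ((Fintype.card Ω - 1) * Nat.card ↥(stabilizer G a ⊓ stabilizer G b)) := by
  have : IsPretransitive G Ω := isPretransitive_of_is_two_pretransitive (h2 := h2)
  rw [← card_stabilizer_eq h2 hab, ← (stabilizer G a).index_mul_card,
    index_stabilizer_of_transitive, Nat.card_eq_fintype_card]

/-- Twice the number of fixed-point-free elements. -/
theorem two_mul_card_free [Fintype G] [Fintype Ω] (hZ : Cfsg.IsZassenhausGroup G Ω)
    {a b : Ω} (hab : a ≠ b) :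
    2 * Nat.card {g : G // ∀ c : Ω, g • c ≠ c} + (Fintype.card Ω - 1) * (Fintype.card Ω - 2) =
      Nat.card G := by
  classical
  have hn := three_le hZ
  obtain ⟨hf, h2, h3, -, -⟩ := hZ
  set n := Fintype.card Ω with hn'
  set e := Nat.card ↥(stabilizer G a ⊓ stabilizer G b) with he
  let f : G → ℕ := fun g => (Finset.univ.filter fun x : Ω => g • x = x).card
  have h1 : ∑ g, f g = n * ((n - 1) * e) := by
    have h := Finset.sum_card_bipartiteAbove_eq_sum_card_bipartiteBelow (s := (Finset.univ : Finset G))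
      (t := (Finset.univ : Finset Ω)) (fun g x => g • x = x)
    change ∑ g, f g = _ at h
    rw [h, Finset.sum_congr rfl (g := fun _ => (n - 1) * e), Finset.sum_const, Finset.card_univ,
      smul_eq_mul]
    intro x _
    obtain ⟨y, hy⟩ := Fintype.exists_ne_of_one_lt_card (by omega : 1 < Fintype.card Ω) x
    have hcard := card_stabilizer_eq (G := G) h2 hy.symm
    rw [card_pair_eq (G := G) h2 hab hy.symm] at hcard
    rw [Finset.bipartiteBelow, ← hcard, Nat.card_eq_fintype_card, Fintype.card_subtype]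
    congr 1
  have hpairs : ∀ g : G, ((Finset.univ : Finset Ω).offDiag.bipartiteAbove
      (fun (g : G) q => g • q.1 = q.1 ∧ g • q.2 = q.2) g).card = f g * f g - f g := by
    intro g
    rw [Finset.bipartiteAbove, show (Finset.univ : Finset Ω).offDiag.filter (fun q => g • q.1 = q.1 ∧ g • q.2 = q.2) =
      (Finset.univ.filter fun x : Ω => g • x = x).offDiag by ext ⟨x, y⟩; simp; tauto]
    exact Finset.offDiag_card _
  have h4 : ∑ g, (f g * f g - f g) = (n * n - n) * e := by
    have h := Finset.sum_card_bipartiteAbove_eq_sum_card_bipartiteBelow (s := (Finset.univ : Finset G))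
      (t := (Finset.univ : Finset Ω).offDiag) (fun g q => g • q.1 = q.1 ∧ g • q.2 = q.2)
    rw [Finset.sum_congr rfl (g := fun g => f g * f g - f g) (fun g _ => hpairs g)] at h
    rw [h, Finset.sum_congr rfl (g := fun _ => e), Finset.sum_const, Finset.offDiag_card,
      Finset.card_univ, smul_eq_mul]
    rintro ⟨x, y⟩ hq
    have hxy : x ≠ y := by simpa using hq
    rw [Finset.bipartiteBelow, he, ← card_pair_eq (G := G) h2 hab hxy, Nat.card_eq_fintype_card,
      Fintype.card_subtype]
    congr 1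
    ext g
    simp
  have hterm : ∀ g : G, 2 * (if f g = 0 then 1 else 0) + 2 * f g +
      (if g = 1 then (n - 1) * (n - 2) else 0) = (f g * f g - f g) + 2 := by
    intro g
    by_cases hg : g = 1
    · subst hg
      have hfn : f 1 = n := by simp [f, n]
      rw [hfn, if_neg (by omega), if_pos rfl]
      obtain ⟨k, hk⟩ : ∃ k, n = k + 2 := ⟨n - 2, by omega⟩
      rw [hk, show k + 2 - 1 = k + 1 from rfl, show k + 2 - 2 = k from rfl,
        show (k + 2) * (k + 2) - (k + 2) = (k + 2) * (k + 1) by rw [← Nat.mul_sub_one]; rfl]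
      ring
    · have hle : f g ≤ 2 := by
        by_contra hlt
        obtain ⟨x, y, z, hx, hy, hz, hxy, hxz, hyz⟩ := Finset.two_lt_card_iff.1 (not_le.1 hlt)
        exact hg (h3 g x y z hxy hyz hxz (Finset.mem_filter.1 hx).2 (Finset.mem_filter.1 hy).2
          (Finset.mem_filter.1 hz).2)
      rw [if_neg hg]
      interval_cases f g <;> simp
  have hfree : Nat.card {g : G // ∀ c : Ω, g • c ≠ c} = ∑ g, if f g = 0 then 1 else 0 := by
    rw [Nat.card_eq_fintype_card, Fintype.card_subtype, Finset.sum_boole, Nat.cast_id]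
    congr 1
    ext g
    simp [f, Finset.filter_eq_empty_iff]
  have hsum := Finset.sum_congr rfl fun g (_ : g ∈ (Finset.univ : Finset G)) => hterm g
  rw [Finset.sum_add_distrib, Finset.sum_add_distrib, Finset.sum_add_distrib, ← Finset.mul_sum,
    ← hfree, ← Finset.mul_sum, h1, h4, Finset.sum_ite_eq', if_pos (Finset.mem_univ _),
    Finset.sum_const, Finset.card_univ, ← Nat.card_eq_fintype_card, smul_eq_mul,
    card_group h2 hab, ← he] at hsum
  have hnn : (n * n - n) * e = n * ((n - 1) * e) := by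
    rw [← Nat.mul_sub_one, mul_assoc]
  rw [hnn] at hsum
  rw [card_group h2 hab, ← he]
  simp only [← hn'] at hsum ⊢
  omega

theorem exists_not_comm [Finite G] [Fintype Ω] (hZ : Cfsg.IsZassenhausGroup G Ω) :
    ∃ x y : G, x * y ≠ y * x := by
  by_contra hc
  push Not at hc
  obtain ⟨hf, h2, -, ⟨g, hg, a, b, hab, ha, hb⟩, -⟩ := hZ
  have : IsPretransitive G Ω := isPretransitive_of_is_two_pretransitive (h2 := h2)
  refine hg (eq_of_smul_eq_smul (α := Ω) fun x => ?_)
  obtain ⟨k, rfl⟩ := exists_smul_eq G a x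
  rw [one_smul, ← mul_smul, hc, mul_smul, ha]

/-- The common hypothesis: elements interchanging two points invert their stabiliser. -/
def SwapInverts (G Ω : Type*) [Group G] [MulAction G Ω] : Prop :=
  ∀ a b : Ω, a ≠ b → ∀ s : G, s • a = b → s • b = a → ∀ x ∈ stabilizer G a ⊓ stabilizer G b,
    s * x * s⁻¹ = x⁻¹

/-- In a simple Zassenhaus group the odd two-point stabilisers are cyclic and inverted. -/
theorem simple_inverts [Finite G] [Fintype Ω] [IsSimpleGroup G]
    (hZ : Cfsg.IsZassenhausGroup G Ω) {a b : Ω} (hab : a ≠ b)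
    (hodd : Odd (Nat.card ↥(stabilizer G a ⊓ stabilizer G b))) :
    IsCyclic ↥(stabilizer G a ⊓ stabilizer G b) ∧ SwapInverts G Ω := by
  have hnc := exists_not_comm hZ
  have hnil : ∀ c d : Ω, c ≠ d → ∀ q : ℕ, q.Prime → q ∣ Nat.card ↥(stabilizer G c ⊓ stabilizer G d) →
      ¬ ∃ N : Subgroup G, N.Normal ∧ N.index = q ^ (Nat.card G).factorization q := by
    rintro c d - q hq hdvd ⟨N, hN, hidx⟩
    rcases IsSimpleGroup.eq_bot_or_eq_top_of_normal N hN with rfl | rfl
    · rw [Subgroup.index_bot] at hidx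
      have := Fact.mk hq
      have hp : IsPGroup q G := IsPGroup.of_card hidx
      have hcen : Nontrivial (Subgroup.center G) := hp.center_nontrivial
      rcases IsSimpleGroup.eq_bot_or_eq_top_of_normal (Subgroup.center G) inferInstance with h | h
      · rw [h] at hcen; exact false_of_nontrivial_of_subsingleton (⊥ : Subgroup G)
      · obtain ⟨x, y, hxy⟩ := hnc
        exact hxy (Subgroup.mem_center_iff.1 (h ▸ Subgroup.mem_top y) x)
    · rw [Subgroup.index_top] at hidx
      have h := (hq.factorization_pos_of_dvd Nat.card_pos.ne'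
        (hdvd.trans (Subgroup.card_subgroup_dvd_card _)))
      exact absurd hidx (Nat.one_lt_pow h.ne' hq.one_lt).ne
  obtain ⟨hf, h2, h3, hfix, -⟩ := hZ
  refine ⟨(Cfsg.Agent.Lib.Perm.OddStabiliser.odd_inverted h2 h3 hfix hab hodd
    (hnil a b hab)).1, fun c d hcd => ?_⟩
  exact (Cfsg.Agent.Lib.Perm.OddStabiliser.odd_inverted h2 h3 hfix hcd
    (card_pair_eq (G := G) h2 hab hcd ▸ hodd) (hnil c d hcd)).2.2

section Involutions

variable [Finite G] [Fintype Ω] (hZ : Cfsg.IsZassenhausGroup G Ω) (hinv : SwapInverts G Ω)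
  {a b : Ω} (hab : a ≠ b) (hodd : Odd (Nat.card ↥(stabilizer G a ⊓ stabilizer G b)))

include hZ hab hodd in
theorem eq_one_of_fix_pair {g : G} (hg : g ^ 2 = 1) {c d : Ω} (hcd : c ≠ d) (hc : g • c = c)
    (hd : g • d = d) : g = 1 := by
  obtain ⟨-, h2, -, -, -⟩ := hZ
  refine eq_one_of_sq (Odd.of_dvd_nat (card_pair_eq (G := G) h2 hab hcd ▸ hodd) ?_) hg
  exact Subgroup.orderOf_dvd_natCard _ (Subgroup.mem_inf.2 ⟨hc, hd⟩)

include hZ hinv hab hodd in
theorem swap_sq {c d : Ω} (hcd : c ≠ d) {s : G} (hc : s • c = d) (hd : s • d = c) :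
    s * s = 1 := by
  have hm : s * s ∈ stabilizer G c ⊓ stabilizer G d :=
    Subgroup.mem_inf.2 ⟨by rw [mem_stabilizer_iff, mul_smul, hc, hd],
      by rw [mem_stabilizer_iff, mul_smul, hd, hc]⟩
  have h := hinv c d hcd s hc hd _ hm
  have hsq : (s * s) ^ 2 = 1 := by
    rw [pow_two, mul_eq_one_iff_eq_inv, ← h]; group
  obtain ⟨hf, h2, -, -, -⟩ := hZ
  exact eq_one_of_sq (Odd.of_dvd_nat (card_pair_eq (G := G) h2 hab hcd ▸ hodd)
    (Subgroup.orderOf_dvd_natCard _ hm)) hsq

omit [Finite G] [Fintype Ω] in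
theorem exists_moved [FaithfulSMul G Ω] {g : G} (hg : g ≠ 1) : ∃ x : Ω, g • x ≠ x := by
  by_contra h
  push Not at h
  exact hg (eq_of_smul_eq_smul (α := Ω) fun x => by rw [h x, one_smul])

include hZ hinv hab hodd in
theorem involutions_conj (x y : G) (hx : orderOf x = 2) (hy : orderOf y = 2) : IsConj x y := by
  have hf := hZ.1
  have h2 := hZ.2.1
  have hkey : ∀ x : G, orderOf x = 2 → ∃ g : G, (g * x * g⁻¹) • a = b ∧ (g * x * g⁻¹) • b = a := by
    intro x hx
    obtain ⟨c, hc⟩ := exists_moved (Ω := Ω) (g := x) (fun h => by simp [h] at hx)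
    obtain ⟨g, hg1, hg2⟩ := is_two_pretransitive_iff.1 h2 (Ne.symm hc) hab
    refine ⟨g, ?_, ?_⟩
    · rw [mul_smul, mul_smul, inv_smul_eq_iff.2 hg1.symm, hg2]
    · rw [mul_smul, mul_smul, inv_smul_eq_iff.2 hg2.symm, ← mul_smul x, ← pow_two, ← hx,
        pow_orderOf_eq_one, one_smul, hg1]
  obtain ⟨g, hg⟩ := hkey x hx
  obtain ⟨k, hk⟩ := hkey y hy
  set t := g * x * g⁻¹
  set t' := k * y * k⁻¹
  have hmem : t * t' ∈ stabilizer G a ⊓ stabilizer G b :=
    Subgroup.mem_inf.2 ⟨by rw [mem_stabilizer_iff, mul_smul, hk.1, hg.2],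
      by rw [mem_stabilizer_iff, mul_smul, hk.2, hg.1]⟩
  obtain ⟨j, hj⟩ := Odd.of_dvd_nat hodd (Subgroup.orderOf_dvd_natCard _ hmem)
  set u := (t * t') ^ (j + 1) with hu
  have hu2 : u * u = t * t' := by
    rw [hu, ← pow_add, show (j + 1) + (j + 1) = orderOf (t * t') + 1 by omega, pow_succ,
      pow_orderOf_eq_one, one_mul]
  have htt : t * t = 1 := swap_sq hZ hinv hab hodd hab hg.1 hg.2
  have huE : u ∈ stabilizer G a ⊓ stabilizer G b := pow_mem hmem _
  have h := hinv a b hab t hg.1 hg.2 u huE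
  have h' : u⁻¹ * t * u = t' := by
    rw [← h, inv_eq_of_mul_eq_one_right htt, mul_assoc _ t t, htt, mul_one, mul_assoc, hu2,
      ← mul_assoc, htt, one_mul]
  exact (isConj_iff.2 ⟨g, rfl⟩ : IsConj x t).trans
    ((isConj_iff.2 ⟨u⁻¹, by rw [inv_inv]; exact h'⟩ : IsConj t t').trans
      (isConj_iff.2 ⟨k, rfl⟩ : IsConj y t').symm)

include hZ hinv hab hodd in
/-- The number of involutions. -/
theorem card_involutions : Nat.card {x : G // orderOf x = 2} =
    if Even (Fintype.card Ω - 1) then Nat.card ↥(stabilizer G a ⊓ stabilizer G b) * Fintype.card Ω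
    else Nat.card ↥(stabilizer G a ⊓ stabilizer G b) * (Fintype.card Ω - 1) := by
  classical
  let := Fintype.ofFinite G
  have hn := three_le hZ
  have hf := hZ.1
  have h2 := hZ.2.1
  set n := Fintype.card Ω with hn'
  set e := Nat.card ↥(stabilizer G a ⊓ stabilizer G b)
  let J : Finset G := Finset.univ.filter fun x => orderOf x = 2
  have hJ : Nat.card {x : G // orderOf x = 2} = J.card := by
    rw [Nat.card_eq_fintype_card, Fintype.card_subtype]
  have hsw : ∀ q ∈ (Finset.univ : Finset Ω).offDiag,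
      (J.bipartiteBelow (fun x q => x • q.1 = q.2) q).card = e := by
    rintro ⟨c, d⟩ hq
    rw [Finset.bipartiteBelow]
    have hcd : c ≠ d := by simpa using hq
    obtain ⟨s, hs1, hs2⟩ := is_two_pretransitive_iff.1 h2 hcd hcd.symm
    rw [← Fintype.card_coe, ← Nat.card_eq_fintype_card]
    refine (Nat.card_congr ?_).trans (card_pair_eq (G := G) h2 hab hcd)
    have hmem : ∀ x : G, x ∈ J.filter (fun x => x • c = d) ↔ x • c = d ∧ x • d = c := by
      intro x
      simp only [J, Finset.mem_filter, Finset.mem_univ, true_and]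
      refine ⟨fun ⟨hx, h⟩ => ⟨h, ?_⟩, fun ⟨h, h'⟩ => ⟨?_, h⟩⟩
      · rw [← h, ← mul_smul, ← pow_two, ← hx, pow_orderOf_eq_one, one_smul]
      · refine orderOf_eq_prime (by rw [pow_two]; exact swap_sq hZ hinv hab hodd hcd h h') ?_
        rintro rfl
        exact hcd (by rwa [one_smul] at h)
    exact
      { toFun := fun x => ⟨s⁻¹ * x.1, Subgroup.mem_inf.2
          ⟨by rw [mem_stabilizer_iff, mul_smul, ((hmem _).1 x.2).1, inv_smul_eq_iff, hs1],
           by rw [mem_stabilizer_iff, mul_smul, ((hmem _).1 x.2).2, inv_smul_eq_iff, hs2]⟩⟩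
        invFun := fun y => ⟨s * y.1, (hmem _).2
          ⟨by rw [mul_smul, mem_stabilizer_iff.1 y.2.1, hs1],
           by rw [mul_smul, mem_stabilizer_iff.1 y.2.2, hs2]⟩⟩
        left_inv := fun x => Subtype.ext (mul_inv_cancel_left _ _)
        right_inv := fun y => Subtype.ext (inv_mul_cancel_left _ _) }
  have hcount := Finset.sum_card_bipartiteAbove_eq_sum_card_bipartiteBelow (s := J)
    (t := (Finset.univ : Finset Ω).offDiag) (fun x q => x • q.1 = q.2)
  rw [Finset.sum_congr rfl (g := fun _ => e) (fun q hq => hsw q hq), Finset.sum_const,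
    Finset.offDiag_card, Finset.card_univ, smul_eq_mul, ← hn'] at hcount
  have hmoved : ∀ x ∈ J, ((Finset.univ : Finset Ω).offDiag.bipartiteAbove
      (fun x q => x • q.1 = q.2) x).card = if Even (n - 1) then n - 1 else n := by
    intro x hx
    have hx2 : orderOf x = 2 := (Finset.mem_filter.1 hx).2
    have h1 : ((Finset.univ : Finset Ω).offDiag.bipartiteAbove (fun x q => x • q.1 = q.2) x) =
        (Finset.univ.filter fun c : Ω => ¬ x • c = c).image (fun c => (c, x • c)) := by
      ext ⟨c, d⟩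
      simp only [Finset.bipartiteAbove, Finset.mem_filter, Finset.mem_offDiag, Finset.mem_univ,
        true_and, Finset.mem_image, Prod.mk.injEq]
      constructor
      · rintro ⟨hcd, rfl⟩
        exact ⟨c, fun h => hcd h.symm, rfl, rfl⟩
      · rintro ⟨u, hu, rfl, rfl⟩
        exact ⟨fun h => hu h.symm, rfl⟩
    rw [h1, Finset.card_image_of_injective _ fun u v h => congrArg Prod.fst h]
    set k := (Finset.univ.filter fun c : Ω => x • c = c).card with hk
    have hkle : k ≤ 1 := by
      by_contra hlt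
      obtain ⟨u, hu, v, hv, huv⟩ := Finset.one_lt_card.1 (not_le.1 hlt)
      have := eq_one_of_fix_pair hZ hab hodd (g := x) (hx2 ▸ pow_orderOf_eq_one x) huv
        (Finset.mem_filter.1 hu).2 (Finset.mem_filter.1 hv).2
      rw [this, orderOf_one] at hx2
      omega
    have hsum := Finset.card_filter_add_card_filter_not (s := (Finset.univ : Finset Ω))
      (fun c => x • c = c)
    rw [Finset.card_univ, ← hk, ← hn'] at hsum
    have hev : Even (Finset.univ.filter fun c : Ω => ¬ x • c = c).card := by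
      have hzp : IsPGroup 2 (Subgroup.zpowers x) :=
        IsPGroup.of_card (n := 1) (by rw [Nat.card_zpowers, hx2, pow_one])
      have : Fact (Nat.Prime 2) := ⟨Nat.prime_two⟩
      have hmod := hzp.card_modEq_card_fixedPoints Ω
      have hfix : Nat.card (fixedPoints (Subgroup.zpowers x) Ω) = k := by
        rw [hk, ← Fintype.card_subtype, ← Nat.card_eq_fintype_card]
        refine Nat.card_congr (Equiv.subtypeEquivRight fun c =>
          ⟨fun hc => hc ⟨x, Subgroup.mem_zpowers x⟩, fun hc g => ?_⟩)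
        obtain ⟨_, i, rfl⟩ := g
        exact mem_stabilizer_iff.1 ((stabilizer G c).zpow_mem (mem_stabilizer_iff.2 hc) i)
      rw [hfix, Nat.card_eq_fintype_card, ← hn'] at hmod
      have hmod' : n % 2 = k % 2 := hmod
      rw [Nat.even_iff]
      omega
    rw [Nat.even_iff] at hev
    by_cases hh : Even (n - 1)
    · rw [if_pos hh]; rw [Nat.even_iff] at hh; omega
    · rw [if_neg hh]; rw [Nat.even_iff] at hh; omega
  rw [Finset.sum_congr rfl hmoved, Finset.sum_const, smul_eq_mul] at hcount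
  rw [hJ]
  by_cases hh : Even (n - 1)
  · rw [if_pos hh] at hcount ⊢
    refine Nat.eq_of_mul_eq_mul_right (show 0 < n - 1 by omega) ?_
    rw [hcount, ← Nat.mul_sub_one]; ring
  · rw [if_neg hh] at hcount ⊢
    refine Nat.eq_of_mul_eq_mul_right (show 0 < n by omega) ?_
    rw [hcount, ← Nat.mul_sub_one]; ring

include hZ hinv hab hodd in
/-- Two involutions fixing the same point commute. -/
theorem commute_of_same_fix {x y : G} (hx : orderOf x = 2) (hy : orderOf y = 2)
    (hxa : x • a = a) (hya : y • a = a) : x * y = y * x := by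
  classical
  let := Fintype.ofFinite G
  have hn := three_le hZ
  have hh : Even (Fintype.card Ω - 1) := by
    have hzp : IsPGroup 2 (Subgroup.zpowers x) :=
      IsPGroup.of_card (n := 1) (by rw [Nat.card_zpowers, hx, pow_one])
    have : Fact (Nat.Prime 2) := ⟨Nat.prime_two⟩
    have hmod := hzp.card_modEq_card_fixedPoints Ω
    have hfix : Nat.card (fixedPoints (Subgroup.zpowers x) Ω) = 1 := by
      rw [Nat.card_eq_one_iff_unique]
      refine ⟨⟨fun u v => Subtype.ext ?_⟩, ⟨a, fun g => ?_⟩⟩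
      · by_contra huv
        have := eq_one_of_fix_pair hZ hab hodd (g := x) (hx ▸ pow_orderOf_eq_one x) huv
          (u.2 ⟨x, Subgroup.mem_zpowers x⟩) (v.2 ⟨x, Subgroup.mem_zpowers x⟩)
        rw [this, orderOf_one] at hx
        omega
      · obtain ⟨_, i, rfl⟩ := g
        exact mem_stabilizer_iff.1 ((stabilizer G a).zpow_mem (mem_stabilizer_iff.2 hxa) i)
    rw [hfix, Nat.card_eq_fintype_card] at hmod
    have hmod' : Fintype.card Ω % 2 = 1 % 2 := hmod
    rw [Nat.even_iff]
    omega
  have hf := hZ.1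
  have h2 := hZ.2.1
  have h3 := hZ.2.2.1
  have hpre : IsPretransitive G Ω := isPretransitive_of_is_two_pretransitive (h2 := h2)
  have huniq : ∀ {z : G}, orderOf z = 2 → ∀ {c d : Ω}, z • c = c → z • d = d → c = d := by
    intro z hz c d hc hd
    by_contra hcd
    have := eq_one_of_fix_pair hZ hab hodd (g := z) (hz ▸ pow_orderOf_eq_one z) hcd hc hd
    rw [this, orderOf_one] at hz
    omega
  let F : Ω → Type _ := fun c => {z : G // orderOf z = 2 ∧ z • c = c}
  have hsame : ∀ c, Nat.card (F c) = Nat.card (F a) := by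
    intro c
    obtain ⟨g, rfl⟩ := exists_smul_eq G a c
    refine (Nat.card_congr (Equiv.subtypeEquiv (MulAut.conj g).toEquiv fun z => ?_)).symm
    have h1 : orderOf (g * z * g⁻¹) = orderOf z := by
      rw [← MulAut.conj_apply, MulEquiv.orderOf_eq]
    simp only [MulEquiv.toEquiv_eq_coe, MulEquiv.coe_toEquiv, MulAut.conj_apply, h1, mul_smul,
      inv_smul_smul, smul_left_cancel_iff]
  have hsigma : Nat.card {z : G // orderOf z = 2} = Nat.card (Σ c, F c) := by
    have hfp : ∀ z : {z : G // orderOf z = 2}, ∃ c : Ω, (z : G) • c = c := by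
      intro z
      obtain ⟨g, hg⟩ := isConj_iff.1 (involutions_conj hZ hinv hab hodd x z hx z.2)
      exact ⟨g • a, by rw [← hg, mul_smul, mul_smul, inv_smul_smul, hxa]⟩
    choose c hc using hfp
    exact Nat.card_congr
      { toFun := fun z => ⟨c z, z.1, z.2, hc z⟩
        invFun := fun w => ⟨w.2.1, w.2.2.1⟩
        left_inv := fun z => rfl
        right_inv := fun ⟨d, z, hz, hzd⟩ => by
          obtain rfl := huniq hz (hc ⟨z, hz⟩) hzd
          rfl }
  have hFcard : Nat.card (F a) = Nat.card ↥(stabilizer G a ⊓ stabilizer G b) := by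
    rw [card_involutions hZ hinv hab hodd, if_pos hh, Nat.card_sigma,
      Finset.sum_congr rfl fun c _ => hsame c, Finset.sum_const, Finset.card_univ, smul_eq_mul,
      mul_comm] at hsigma
    exact Nat.eq_of_mul_eq_mul_left (show 0 < Fintype.card Ω by omega) hsigma.symm
  have hstab : ∀ {z : G}, orderOf z = 2 → z • a = a → ∀ {c : G}, c • a = a → c * z = z * c →
      ∀ d, d ≠ a → c • d = d → c = 1 := by
    intro z hz hza c hca hcz d hd hcd
    refine h3 c a d (z • d) (Ne.symm hd) (fun h => hd (huniq hz h.symm hza))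
      (fun h => hd (smul_left_cancel z (h.symm.trans hza.symm))) hca hcd ?_
    rw [← mul_smul, hcz, mul_smul, hcd]
  let E := stabilizer G a ⊓ stabilizer G b
  let φ : E → F a := fun ε => ⟨ε * x * (ε : G)⁻¹,
    (MulEquiv.orderOf_eq (MulAut.conj (ε : G)) x).trans hx,
    by rw [mul_smul, mul_smul, inv_smul_eq_iff.2 (mem_stabilizer_iff.1 ε.2.1).symm, hxa,
      mem_stabilizer_iff.1 ε.2.1]⟩
  have hφinj : Function.Injective φ := by
    intro ε ε' h
    have hh' : (ε : G) * x * (ε : G)⁻¹ = ε' * x * (ε' : G)⁻¹ := congrArg Subtype.val h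
    have hm : (ε' : G)⁻¹ * ε ∈ E := mul_mem (inv_mem ε'.2) ε.2
    have hc : ((ε' : G)⁻¹ * ε) * x = x * ((ε' : G)⁻¹ * ε) := by
      calc ((ε' : G)⁻¹ * ε) * x = (ε' : G)⁻¹ * ((ε : G) * x * (ε : G)⁻¹) * ε := by group
        _ = x * ((ε' : G)⁻¹ * ε) := by rw [hh']; group
    have h1 := hstab hx hxa hm.1 hc b hab.symm hm.2
    exact Subtype.ext (inv_mul_eq_one.1 h1).symm
  have hφ : Function.Bijective φ :=
    (Nat.bijective_iff_injective_and_card φ).2 ⟨hφinj, hFcard.symm⟩
  obtain ⟨ε, hε⟩ := hφ.2 ⟨y * x * y⁻¹, (MulEquiv.orderOf_eq (MulAut.conj y) x).trans hx,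
    by rw [mul_smul, mul_smul, inv_smul_eq_iff.2 hya.symm, hxa, hya]⟩
  have hε' : (ε : G) * x * (ε : G)⁻¹ = y * x * y⁻¹ := congrArg Subtype.val hε
  set c := y⁻¹ * (ε : G) with hc
  have hcx : c * x = x * c := by
    calc c * x = y⁻¹ * ((ε : G) * x * (ε : G)⁻¹) * ε := by rw [hc]; group
      _ = x * c := by rw [hε', hc]; group
  have hca : c • a = a := by
    rw [hc, mul_smul, mem_stabilizer_iff.1 ε.2.1, inv_smul_eq_iff, hya]
  have hε1 : (ε : G) = 1 := by
    by_contra hne
    have hεb : (ε : G) • b = b := ε.2.2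
    have hεa : (ε : G) • a = a := ε.2.1
    -- the element `c` fixes only `a` unless trivial
    have hcfix : ∀ d, d ≠ a → c • d = d → c = 1 := hstab hx hxa hca hcx
    by_cases hc1 : c = 1
    · have : (ε : G) = y := (inv_mul_eq_one.1 hc1).symm
      exact hne (eq_one_of_fix_pair hZ hab hodd (this ▸ hy ▸ pow_orderOf_eq_one y) hab hεa hεb)
    · obtain ⟨K, hK⟩ := exists_isKer h2 h3 hZ.2.2.2.1 a
      have hcK : c ∈ K := (hK.mem_iff c).2 ⟨hca, Or.inr fun d hd h => hc1 (hcfix d hd h)⟩
      have hyK : y ∈ K := (hK.mem_iff y).2 ⟨hya, Or.inr fun d hd h => hd (huniq hy h hya)⟩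
      have hεK : (ε : G) ∈ K := by
        rw [show (ε : G) = y * c by rw [hc, mul_inv_cancel_left]]
        exact mul_mem hyK hcK
      exact hne (hK.eq_one hεK hab.symm hεb)
  rw [hc, hε1, mul_one] at hcx
  exact (Commute.inv_left_iff.1 (show Commute y⁻¹ x from hcx)).eq.symm

end Involutions

end Cfsg.Agent.Lib.Zassenhaus.SimpleOdd
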