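import Mathlib
import Cfsg.Agent.Lib.Zassenhaus.SimpleOdd

/-!
In a Zassenhaus group whose two-point stabilisers have odd order `e` and are inverted by the swaps,
at least `e` conjugacy classes avoid the kernel of a point stabiliser.
-/

set_option autoImplicit false

namespace Cfsg.Agent.Lib.Zassenhaus.ClassCount

open MulAction Cfsg.Agent.Lib.Zassenhaus

variable {G Ω : Type*} [Group G] [Finite G] [MulAction G Ω] [Fintype Ω]
  (hZ : Cfsg.IsZassenhausGroup G Ω) (hinv : SimpleOdd.SwapInverts G Ω)
  {a b : Ω} (hab : a ≠ b) (hodd : Odd (Nat.card ↥(stabilizer G a ⊓ stabilizer G b)))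

include hZ hab hodd in
omit [Finite G] in
theorem fix_unique {x : G} (hx : orderOf x = 2) {c d : Ω} (hc : x • c = c) (hd : x • d = d) :
    c = d := by
  have : Finite G := @Finite.of_injective _ _ _ (MulAction.toPerm : G → Equiv.Perm Ω)
    (@MulAction.toPerm_injective _ _ _ _ hZ.1)
  by_contra hcd
  have := SimpleOdd.eq_one_of_fix_pair hZ hab hodd (g := x) (hx ▸ pow_orderOf_eq_one x) hcd hc hd
  rw [this, orderOf_one] at hx
  omega

include hZ hab hodd in
/-- An involution has as many fixed points as the parity of the degree allows. -/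
theorem exists_fix_iff {x : G} (hx : orderOf x = 2) :
    (∃ c : Ω, x • c = c) ↔ ¬ Even (Fintype.card Ω) := by
  classical
  have hzp : IsPGroup 2 (Subgroup.zpowers x) :=
    IsPGroup.of_card (n := 1) (by rw [Nat.card_zpowers, hx, pow_one])
  have : Fact (Nat.Prime 2) := ⟨Nat.prime_two⟩
  have hmod := hzp.card_modEq_card_fixedPoints Ω
  have hset : ∀ c : Ω, c ∈ fixedPoints (Subgroup.zpowers x) Ω ↔ x • c = c := by
    refine fun c => ⟨fun h => h ⟨x, Subgroup.mem_zpowers x⟩, fun h g => ?_⟩
    obtain ⟨_, i, rfl⟩ := g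
    exact mem_stabilizer_iff.1 ((stabilizer G c).zpow_mem (mem_stabilizer_iff.2 h) i)
  rw [Nat.card_eq_fintype_card] at hmod
  by_cases hex : ∃ c : Ω, x • c = c
  · obtain ⟨c, hc⟩ := hex
    have h1 : Nat.card (fixedPoints (Subgroup.zpowers x) Ω) = 1 := Nat.card_eq_one_iff_unique.2
      ⟨⟨fun u v => Subtype.ext (fix_unique hZ hab hodd hx ((hset _).1 u.2) ((hset _).1 v.2))⟩,
        ⟨c, (hset c).2 hc⟩⟩
    rw [h1] at hmod
    refine iff_of_true ⟨c, hc⟩ ?_
    have hmod' : Fintype.card Ω % 2 = 1 % 2 := hmod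
    rw [Nat.even_iff]; omega
  · have h1 : Nat.card (fixedPoints (Subgroup.zpowers x) Ω) = 0 :=
      Nat.card_eq_zero.2 (Or.inl ⟨fun u => hex ⟨u, (hset _).1 u.2⟩⟩)
    rw [h1] at hmod
    refine iff_of_false hex ?_
    have hmod' : Fintype.card Ω % 2 = 0 % 2 := hmod
    rw [not_not, Nat.even_iff]; omega

include hZ hinv hab hodd in
/-- At most `e` involutions fix a given point. -/
theorem card_fixing_le (c : Ω) : Nat.card {x : G // orderOf x = 2 ∧ x • c = c} ≤
    Nat.card ↥(stabilizer G a ⊓ stabilizer G b) := by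
  classical
  let := Fintype.ofFinite G
  by_cases hev : Even (Fintype.card Ω)
  · have : IsEmpty {x : G // orderOf x = 2 ∧ x • c = c} :=
      ⟨fun x => (exists_fix_iff hZ hab hodd x.2.1).1 ⟨c, x.2.2⟩ hev⟩
    simp
  · have h2 := hZ.2.1
    have : IsPretransitive G Ω := isPretransitive_of_is_two_pretransitive (h2 := h2)
    let F : Ω → Type _ := fun d => {x : G // orderOf x = 2 ∧ x • d = d}
    have hsame : ∀ d, Nat.card (F d) = Nat.card (F c) := by
      intro d
      obtain ⟨g, rfl⟩ := exists_smul_eq G c d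
      refine (Nat.card_congr (Equiv.subtypeEquiv (MulAut.conj g).toEquiv fun z => ?_)).symm
      have h1 : orderOf (g * z * g⁻¹) = orderOf z := by
        rw [← MulAut.conj_apply, MulEquiv.orderOf_eq]
      simp only [MulEquiv.toEquiv_eq_coe, MulEquiv.coe_toEquiv, MulAut.conj_apply, h1, mul_smul,
        inv_smul_smul, smul_left_cancel_iff]
    have hfp : ∀ z : {z : G // orderOf z = 2}, ∃ d : Ω, (z : G) • d = d :=
      fun z => (exists_fix_iff hZ hab hodd z.2).2 hev
    choose p hp using hfp
    have hsigma : Nat.card {z : G // orderOf z = 2} = Nat.card (Σ d, F d) :=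
      Nat.card_congr
        { toFun := fun z => ⟨p z, z.1, z.2, hp z⟩
          invFun := fun w => ⟨w.2.1, w.2.2.1⟩
          left_inv := fun z => rfl
          right_inv := fun ⟨d, z, hz, hzd⟩ => by
            obtain rfl := fix_unique hZ hab hodd hz (hp ⟨z, hz⟩) hzd
            rfl }
    have hpos : 0 < Fintype.card Ω := Fintype.card_pos_iff.2 ⟨c⟩
    rw [SimpleOdd.card_involutions hZ hinv hab hodd,
      if_pos (by rw [Nat.even_iff] at hev ⊢; omega), Nat.card_sigma,
      Finset.sum_congr rfl fun d _ => hsame d, Finset.sum_const, Finset.card_univ, smul_eq_mul,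
      mul_comm] at hsigma
    exact (Nat.eq_of_mul_eq_mul_left hpos hsigma).ge

open Classical in
include hZ hinv hab hodd in
theorem le_card_avoiding {h e : ℕ} (hh : Fintype.card Ω = h + 1)
    (he : Nat.card ↥(stabilizer G a ⊓ stabilizer G b) = e) (hlt : e < h) (H : Subgroup G)
    (hHfix : ∀ u ∈ H, u ≠ 1 → ∀ c : Ω, u • c = c ↔ c = a) :
    e ≤ Nat.card {C : ConjClasses G // ∀ g : G, ConjClasses.mk g = C → g ∉ H} := by
  let := Fintype.ofFinite G
  let J : Finset G := Finset.univ.filter fun x => orderOf x = 2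
  set I := J.card with hI
  let bad : G → Prop := fun g => ∃ m : G, m * g * m⁻¹ ∈ H
  -- the pairs with product conjugate into `H`
  have hbound : ∀ x ∈ J, (J.filter fun y => bad (x * y)).card ≤ if Even h then e else 1 := by
    intro x hx
    simp only [J, Finset.mem_filter, Finset.mem_univ, true_and] at hx
    have hxx : x * x = 1 := by rw [← pow_two, ← hx, pow_orderOf_eq_one]
    have hkey : ∀ y ∈ J, bad (x * y) → y ≠ x → ∃ c : Ω, x • c = c ∧ y • c = c := by
      intro y hy hb hyx
      simp only [J, Finset.mem_filter, Finset.mem_univ, true_and] at hy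
      have hyy : y * y = 1 := by rw [← pow_two, ← hy, pow_orderOf_eq_one]
      obtain ⟨m, hm⟩ := hb
      have hm1 : m * (x * y) * m⁻¹ ≠ 1 := fun h1 => hyx (by
        rw [conj_eq_one_iff] at h1
        rw [eq_inv_of_mul_eq_one_right h1, inv_eq_of_mul_eq_one_right hxx])
      have huniq : ∀ c : Ω, (x * y) • c = c ↔ c = m⁻¹ • a := by
        intro c
        rw [eq_inv_smul_iff, ← hHfix _ hm hm1 (m • c), mul_smul (m * (x * y)), inv_smul_smul,
          mul_smul m, smul_left_cancel_iff]
      set c := m⁻¹ • a with hc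
      have hfix : (x * y) • c = c := (huniq c).2 rfl
      have hxc : x • c = c := by
        refine (huniq _).1 ?_
        have h1 : x * y * x = x * (x * y)⁻¹ * (x * x) := by
          rw [mul_inv_rev, inv_eq_of_mul_eq_one_right hxx, inv_eq_of_mul_eq_one_right hyy, hxx,
            mul_one, ← mul_assoc]
        rw [← mul_smul, h1, hxx, mul_one, mul_smul]
        exact congrArg _ (inv_smul_eq_iff.2 hfix.symm)
      refine ⟨c, hxc, smul_left_cancel x ?_⟩
      rw [← mul_smul, hfix, hxc]
    by_cases hev : Even h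
    · rw [if_pos hev]
      obtain ⟨c, hc⟩ := (exists_fix_iff hZ hab hodd hx).2 (by
        rw [hh, Nat.even_add_one, not_not]; exact hev)
      refine le_trans ?_ (he ▸ card_fixing_le hZ hinv hab hodd c)
      rw [Nat.card_eq_fintype_card, Fintype.card_subtype]
      refine Finset.card_le_card fun y hy => ?_
      obtain ⟨hy, hb⟩ := Finset.mem_filter.1 hy
      have hy2 : orderOf y = 2 := (Finset.mem_filter.1 hy).2
      refine Finset.mem_filter.2 ⟨Finset.mem_univ _, hy2, ?_⟩
      by_cases hyx : y = x
      · rw [hyx, hc]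
      · obtain ⟨d, hd, hd'⟩ := hkey y hy hb hyx
        rwa [fix_unique hZ hab hodd hx hc hd]
    · rw [if_neg hev]
      refine le_trans (Finset.card_le_card (t := {x}) fun y hy => ?_) (Finset.card_singleton x).le
      obtain ⟨hy, hb⟩ := Finset.mem_filter.1 hy
      by_contra hyx
      obtain ⟨d, hd, -⟩ := hkey y hy hb (fun e => hyx (Finset.mem_singleton.2 e))
      refine (exists_fix_iff hZ hab hodd hx).1 ⟨d, hd⟩ ?_
      rw [hh, Nat.even_add_one]
      exact hev
  -- the other pairs, by classes
  let good : Finset G := Finset.univ.filter fun g => ¬ bad g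
  have hpairs : ((J ×ˢ J).filter fun p => ¬ bad (p.1 * p.2)).card ≤
      ∑ g ∈ good, Nat.card (Subgroup.centralizer ({g} : Set G)) := by
    rw [Finset.card_eq_sum_card_fiberwise (f := fun p : G × G => p.1 * p.2) (t := good)
      fun p hp => Finset.mem_filter.2 ⟨Finset.mem_univ _, (Finset.mem_filter.1 hp).2⟩]
    refine Finset.sum_le_sum fun g _ => ?_
    set T := ((J ×ˢ J).filter fun p => ¬ bad (p.1 * p.2)).filter fun p => p.1 * p.2 = g
    rcases T.eq_empty_or_nonempty with h0 | ⟨p0, hp0⟩
    · simp [h0]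
    have hT : ∀ p ∈ T, p.1 * g * p.1 = g⁻¹ ∧ p.1 * p.1 = 1 ∧ p.2 = p.1 * g := by
      intro p hp
      simp only [T, J, Finset.mem_filter, Finset.mem_product, Finset.mem_univ, true_and] at hp
      obtain ⟨⟨⟨h1, h2'⟩, -⟩, hg⟩ := hp
      have h11 : p.1 * p.1 = 1 := by rw [← pow_two, ← h1, pow_orderOf_eq_one]
      have h22 : p.2 * p.2 = 1 := by rw [← pow_two, ← h2', pow_orderOf_eq_one]
      refine ⟨?_, h11, by rw [← hg, ← mul_assoc, h11, one_mul]⟩
      rw [← hg, mul_inv_rev, inv_eq_of_mul_eq_one_right h11, inv_eq_of_mul_eq_one_right h22,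
        ← mul_assoc, h11, one_mul]
    obtain ⟨hp0g, hp011, -⟩ := hT p0 hp0
    rw [Nat.card_eq_fintype_card, Fintype.card_subtype]
    refine Finset.card_le_card_of_injOn (fun p => p0.1 * p.1) (fun p hp => ?_) fun p hp q hq hpq => ?_
    · obtain ⟨hpg, hp11, -⟩ := hT p hp
      refine Finset.mem_filter.2 ⟨Finset.mem_univ _, ?_⟩
      rw [Subgroup.mem_centralizer_singleton_iff]
      have e1 : p.1 * g = g⁻¹ * p.1 := by
        rw [← hpg, mul_assoc _ p.1 p.1, hp11, mul_one]
      have e0 : p0.1 * g⁻¹ = g * p0.1 := by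
        rw [← hp0g, ← mul_assoc, ← mul_assoc, hp011, one_mul]
      rw [mul_assoc, e1, ← mul_assoc, e0, mul_assoc]
    · have h1 : p.1 = q.1 := mul_left_cancel hpq
      exact Prod.ext h1 (by rw [(hT p hp).2.2, (hT q hq).2.2, h1])
  let Cs : Finset (ConjClasses G) :=
    Finset.univ.filter fun C => ∀ g : G, ConjClasses.mk g = C → g ∉ H
  have hclasses : ∑ g ∈ good, Nat.card (Subgroup.centralizer ({g} : Set G)) =
      Cs.card * Nat.card G := by
    rw [← Finset.sum_fiberwise_of_maps_to (g := ConjClasses.mk) (t := Cs) fun g hg => ?_]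
    · rw [Finset.sum_congr rfl fun C hC => ?_, Finset.sum_const, smul_eq_mul]
      obtain ⟨g0, rfl⟩ := ConjClasses.mk_surjective C
      simp only [Cs, Finset.mem_filter, Finset.mem_univ, true_and] at hC
      have hfilter : good.filter (fun g => ConjClasses.mk g = ConjClasses.mk g0) =
          Finset.univ.filter fun g => IsConj g g0 := by
        ext g
        simp only [good, Finset.mem_filter, Finset.mem_univ, true_and, ConjClasses.mk_eq_mk_iff_isConj,
          and_iff_right_iff_imp]
        rintro hg ⟨m, hm⟩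
        refine hC _ ?_ hm
        rw [ConjClasses.mk_eq_mk_iff_isConj]
        exact (isConj_iff.2 ⟨m, rfl⟩ : IsConj g (m * g * m⁻¹)).symm.trans hg
      have hconst : ∀ g ∈ Finset.univ.filter (fun g => IsConj g g0),
          Nat.card (Subgroup.centralizer ({g} : Set G)) =
            Nat.card (Subgroup.centralizer ({g0} : Set G)) := by
        intro g hg
        obtain ⟨c, hc⟩ := isConj_iff.1 (Finset.mem_filter.1 hg).2
        refine Nat.card_congr (Equiv.subtypeEquiv (MulAut.conj c).toEquiv fun z => ?_)
        simp only [MulEquiv.toEquiv_eq_coe, MulEquiv.coe_toEquiv, MulAut.conj_apply,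
          Subgroup.mem_centralizer_singleton_iff, ← hc]
        constructor
        · intro h1
          calc c * z * c⁻¹ * (c * g * c⁻¹) = c * (z * g) * c⁻¹ := by group
            _ = c * (g * z) * c⁻¹ := by rw [h1]
            _ = c * g * c⁻¹ * (c * z * c⁻¹) := by group
        · intro h1
          calc z * g = c⁻¹ * (c * z * c⁻¹ * (c * g * c⁻¹)) * c := by group
            _ = c⁻¹ * (c * g * c⁻¹ * (c * z * c⁻¹)) * c := by rw [h1]
            _ = g * z := by group
      rw [hfilter, Finset.sum_congr rfl hconst, Finset.sum_const, smul_eq_mul]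
      have hcard : (Finset.univ.filter fun g => IsConj g g0).card *
          Nat.card (Subgroup.centralizer ({g0} : Set G)) = Nat.card G := by
        have h1 := (MulAction.stabilizer (ConjAct G) g0).index_mul_card
        rw [MulAction.index_stabilizer, ← Nat.card_coe_set_eq,
          show Nat.card (ConjAct G) = Nat.card G from Nat.card_congr ConjAct.ofConjAct.toEquiv] at h1
        rw [← h1]
        congr 1
        · rw [Nat.card_eq_fintype_card, ← Set.toFinset_card]
          congr 1
          ext g
          simp [ConjAct.mem_orbit_conjAct]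
        · rw [ConjAct.stabilizer_eq_centralizer]
          rfl
      exact hcard
    · simp only [good, Finset.mem_filter, Finset.mem_univ, true_and, bad] at hg
      refine Finset.mem_filter.2 ⟨Finset.mem_univ _, fun g' hg' hmem => hg ?_⟩
      obtain ⟨m, hm⟩ := isConj_iff.1 (ConjClasses.mk_eq_mk_iff_isConj.1 hg').symm
      exact ⟨m, by rw [hm]; exact hmem⟩
  -- comparison
  have hsplit : ((J ×ˢ J).filter fun p => bad (p.1 * p.2)).card +
      ((J ×ˢ J).filter fun p => ¬ bad (p.1 * p.2)).card = I * I := by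
    rw [Finset.card_filter_add_card_filter_not, Finset.card_product]
  have hbadpairs : ((J ×ˢ J).filter fun p => bad (p.1 * p.2)).card ≤
      I * if Even h then e else 1 := by
    rw [Finset.card_filter, Finset.sum_product, ← smul_eq_mul, ← Finset.sum_const]
    refine Finset.sum_le_sum fun x hx => ?_
    rw [← Finset.card_filter]
    exact hbound x hx
  have hcardG : Nat.card G = (h + 1) * (h * e) := by
    have := SimpleOdd.card_group hZ.2.1 hab
    rw [hh, he] at this
    simpa using this
  have hIval : I = if Even h then e * (h + 1) else e * h := by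
    have := SimpleOdd.card_involutions hZ hinv hab hodd
    rw [Nat.card_eq_fintype_card, Fintype.card_subtype, hh, he] at this
    simpa using this
  rw [Nat.card_eq_fintype_card, Fintype.card_subtype]
  change e ≤ Cs.card
  have h1 : I * I ≤ (I * if Even h then e else 1) + Cs.card * ((h + 1) * (h * e)) := by
    rw [← hsplit, ← hcardG, ← hclasses]
    exact add_le_add hbadpairs hpairs
  have he1 : 1 ≤ e := by
    obtain ⟨j, hj⟩ := hodd
    omega
  by_contra hlt'
  obtain ⟨d, hd⟩ : ∃ d, e = Cs.card + 1 + d := ⟨e - (Cs.card + 1), by omega⟩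
  have hC : Cs.card * ((h + 1) * (h * e)) + (h + 1) * (h * e) ≤ e * ((h + 1) * (h * e)) := by
    rw [← Nat.succ_mul]
    exact Nat.mul_le_mul_right _ (by omega)
  by_cases hev : Even h
  · rw [if_pos hev] at h1 hIval
    have h3 : 1 ≤ (h + 1) * (h * e) :=
      Nat.one_le_iff_ne_zero.2 (by simp only [ne_eq, mul_eq_zero]; omega)
    rw [hIval] at h1
    nlinarith
  · rw [if_neg hev] at h1 hIval
    rw [hIval] at h1
    have h3 : (e + 1) * 1 ≤ h * 1 := by omega
    nlinarith [Nat.mul_le_mul_left (h * e) hlt]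

end Cfsg.Agent.Lib.Zassenhaus.ClassCount
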