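import Mathlib
import Cfsg.Agent.Lib.Zassenhaus.SimpleOdd
import Cfsg.Agent.Lib.Chars.Ops
import Cfsg.Agent.Lib.Chars.Induced

/-!
# Characters induced from linear characters of a point stabiliser
-/

set_option autoImplicit false

namespace Cfsg.Agent.Lib.Zassenhaus.InducedLinear

open MulAction Cfsg Cfsg.Agent.Lib
open scoped ComplexConjugate

variable {G Ω : Type*} [Group G] [Fintype G] [MulAction G Ω]

/-- At an element fixing only `a` the induced character takes the value of the linear character. -/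
theorem indFun_apply_of_unique_fix {a : Ω} (μ : stabilizer G a →* ℂˣ) {u : G}
    (hu : u ∈ stabilizer G a) (huniq : ∀ c : Ω, u • c = c → c = a) :
    indFun (stabilizer G a) (fun x => (μ x : ℂ)) u = (μ ⟨u, hu⟩ : ℂ) := by
  classical
  let := Fintype.ofFinite (stabilizer G a)
  have hterm : ∀ g : G, extendByZero (stabilizer G a) (fun x => (μ x : ℂ)) (g⁻¹ * u * g) =
      extendByZero (stabilizer G a) (fun _ => (μ ⟨u, hu⟩ : ℂ)) g := by
    intro g
    by_cases hg : g ∈ stabilizer G a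
    · rw [Chars.extendByZero_of_mem _ hg,
        Chars.extendByZero_of_mem _ ((stabilizer G a).mul_mem ((stabilizer G a).mul_mem
          ((stabilizer G a).inv_mem hg) hu) hg),
        show (⟨g⁻¹ * u * g, _⟩ : stabilizer G a) = ⟨g, hg⟩⁻¹ * ⟨u, hu⟩ * ⟨g, hg⟩ from rfl,
        map_mul, map_mul, map_inv, mul_comm, mul_inv_cancel_left]
    · rw [Chars.extendByZero_of_not_mem _ hg, Chars.extendByZero_of_not_mem]
      intro h
      refine hg (mem_stabilizer_iff.2 (huniq _ ?_))
      rw [mem_stabilizer_iff, mul_smul, mul_smul, inv_smul_eq_iff] at h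
      exact h
  rw [indFun, Finset.sum_congr rfl fun g _ => hterm g, Chars.sum_extendByZero, Finset.sum_const,
    Finset.card_univ, nsmul_eq_mul, Fintype.card_eq_nat_card, ← mul_assoc,
    inv_mul_cancel₀ (Nat.cast_ne_zero.2 Nat.card_pos.ne'), one_mul]

/-- If interchanging `a` and `b` inverts the two-point stabiliser of odd order, and the linear
character is non-trivial there, the induced character is irreducible. -/
theorem isIrrCharacter_indFun (h2 : IsMultiplyPretransitive G Ω 2)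
    (hinv : SimpleOdd.SwapInverts G Ω) {a b : Ω} (hab : a ≠ b)
    (hodd : Odd (Nat.card ↥(stabilizer G a ⊓ stabilizer G b))) (μ : stabilizer G a →* ℂˣ)
    (hμ : ∃ x : stabilizer G a, (x : G) • b = b ∧ μ x ≠ 1) :
    IsIrrCharacter G (indFun (stabilizer G a) (fun x => (μ x : ℂ))) := by
  classical
  let N := stabilizer G a
  have hN : N = stabilizer G a := rfl
  let := Fintype.ofFinite N
  let lam : N → ℂ := fun x => (μ x : ℂ)
  change IsIrrCharacter G (indFun N lam)
  have hlamc : IsCharacter N lam := Chars.isCharacter_hom μ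
  have hI := Chars.isCharacter_indFun N hlamc
  rw [Chars.isIrrCharacter_iff_classInner_eq_one hI,
    Chars.classInner_indFun_right N lam _ (Chars.isClassFunction_of_isCharacter hI)]
  obtain ⟨t, hta, htb⟩ := is_two_pretransitive_iff.1 h2 hab hab.symm
  set J : G → ℂ := fun g => ∑ x : N, extendByZero N lam (g⁻¹ * (x : G) * g) * conj (lam x) with hJ
  have hJN : ∀ g ∈ N, J g = (Nat.card N : ℂ) := by
    intro g hg
    have h1 := Chars.classInner_irr_self (Chars.linIrr μ)
    simp only [classInner] at h1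
    rw [inv_mul_eq_one₀ Chars.natCard_ne_zero, eq_comm] at h1
    refine Eq.trans (Finset.sum_congr rfl fun x _ => ?_) h1
    rw [Chars.extendByZero_of_mem lam (N.mul_mem (N.mul_mem (N.inv_mem hg) x.2) hg)]
    congr 1
    change ((μ (⟨g, hg⟩⁻¹ * x * ⟨g, hg⟩) : ℂˣ) : ℂ) = (μ x : ℂ)
    rw [map_mul, map_mul, map_inv, mul_comm, mul_inv_cancel_left]
  have hJt : J t = 0 := by
    obtain ⟨x₀, hx₀, hμx₀⟩ := hμ
    let E : Subgroup G := N ⊓ stabilizer G b
    let φ : E →* ℂˣ := μ.comp (Subgroup.inclusion inf_le_left)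
    have hne : (φ⁻¹ ^ 2 : E →* ℂˣ) ≠ 1 := by
      intro h
      have h1 : (μ x₀)⁻¹ ^ 2 = 1 := DFunLike.congr_fun h ⟨(x₀ : G), x₀.2, hx₀⟩
      rw [inv_pow, inv_eq_one] at h1
      refine hμx₀ (SimpleOdd.eq_one_of_sq (Odd.of_dvd_nat hodd ?_) h1)
      refine (orderOf_map_dvd μ x₀).trans ?_
      rw [← Subgroup.orderOf_coe]
      exact Subgroup.orderOf_dvd_natCard _ (Subgroup.mem_inf.2 ⟨x₀.2, hx₀⟩)
    have hsum : ∑ x : E, ((φ⁻¹ ^ 2 : E →* ℂˣ) x : ℂ) = 0 := by
      have hne' : Chars.linIrr (φ⁻¹ ^ 2 : E →* ℂˣ) ≠ Chars.linIrr (1 : E →* ℂˣ) :=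
        fun h => hne (Chars.linIrr_injective h)
      have h0 := Chars.classInner_irr_of_ne hne'
      simp only [classInner, mul_eq_zero, inv_eq_zero, Chars.natCard_ne_zero, false_or] at h0
      refine Eq.trans (Finset.sum_congr rfl fun x _ => ?_) h0
      simp [Chars.linIrr]
    rw [← hsum]
    refine (Finset.sum_bij_ne_zero (fun (x : E) _ _ => (⟨(x : G), x.2.1⟩ : N))
      (fun _ _ _ => Finset.mem_univ _) (fun x _ _ y _ _ h => Subtype.ext (congrArg
        (fun z : N => (z : G)) h)) (fun x _ hx => ?_) (fun x _ _ => ?_)).symm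
    · have hxb : (x : G) • b = b := by
        by_contra hxb
        rw [Chars.extendByZero_of_not_mem lam (g := t⁻¹ * (x : G) * t) (fun h => hxb ?_), zero_mul] at hx
        · exact hx rfl
        · rw [mem_stabilizer_iff, mul_smul, mul_smul, hta, inv_smul_eq_iff, hta] at h
          exact h
      exact ⟨⟨(x : G), x.2, hxb⟩, Finset.mem_univ _, Units.ne_zero _, rfl⟩
    · have htinv : t⁻¹ * (x : G) * t = (x : G)⁻¹ := by
        have h := hinv a b hab t⁻¹ (inv_smul_eq_iff.2 htb.symm) (inv_smul_eq_iff.2 hta.symm) x x.2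
        rwa [inv_inv] at h
      change (((φ⁻¹ ^ 2 : E →* ℂˣ) x : ℂˣ) : ℂ) =
        extendByZero N lam (t⁻¹ * (x : G) * t) * conj (lam ⟨(x : G), x.2.1⟩)
      rw [htinv, Chars.extendByZero_of_mem lam (N.inv_mem x.2.1)]
      have hc : conj (lam ⟨(x : G), x.2.1⟩) = lam (⟨(x : G), x.2.1⟩ : N)⁻¹ :=
        (Chars.irr_inv (Chars.linIrr μ) _).symm
      rw [hc]
      change _ = ((μ (⟨(x : G), x.2.1⟩ : N)⁻¹ : ℂˣ) : ℂ) * ((μ (⟨(x : G), x.2.1⟩ : N)⁻¹ : ℂˣ) : ℂ)
      rw [← Units.val_mul, ← pow_two, map_inv]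
      rfl
  have hJcongr : ∀ k ∈ N, ∀ k' ∈ N, ∀ g, J (k * g * k') = J g := by
    intro k hk k' hk' g
    refine Fintype.sum_equiv (MulAut.conj (⟨k, hk⟩ : N)⁻¹).toEquiv _ _ fun x => ?_
    simp only [MulEquiv.toEquiv_eq_coe, MulEquiv.coe_toEquiv, MulAut.conj_apply, inv_inv]
    have e1 : ∀ y : G, extendByZero N lam (k'⁻¹ * y * k') = extendByZero N lam y := by
      intro y
      by_cases hy : y ∈ N
      · rw [Chars.extendByZero_of_mem lam hy, Chars.extendByZero_of_mem lam
          (N.mul_mem (N.mul_mem (N.inv_mem hk') hy) hk')]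
        change ((μ (⟨k', hk'⟩⁻¹ * ⟨y, hy⟩ * ⟨k', hk'⟩) : ℂˣ) : ℂ) = (μ ⟨y, hy⟩ : ℂ)
        rw [map_mul, map_mul, map_inv, mul_comm, mul_inv_cancel_left]
      · rw [Chars.extendByZero_of_not_mem lam hy, Chars.extendByZero_of_not_mem]
        intro h
        refine hy ?_
        have h' := N.mul_mem (N.mul_mem hk' h) (N.inv_mem hk')
        simpa [mul_assoc] using h'
    rw [show (k * g * k')⁻¹ * (x : G) * (k * g * k') =
      k'⁻¹ * (g⁻¹ * (k⁻¹ * (x : G) * k) * g) * k' by group, e1]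
    congr 2
    change ((μ x : ℂˣ) : ℂ) = ((μ ((⟨k, hk⟩ : N)⁻¹ * x * ⟨k, hk⟩) : ℂˣ) : ℂ)
    rw [map_mul, map_mul, map_inv, mul_comm _ (μ ⟨k, hk⟩), mul_inv_cancel_left]
  have hJout : ∀ g, g ∉ N → J g = 0 := by
    intro g hg
    obtain ⟨k, hka, hkb⟩ := is_two_pretransitive_iff.1 h2 hab
      (Ne.symm (fun h : g • a = a => hg h))
    have hk' : t⁻¹ * k⁻¹ * g ∈ N := by
      rw [hN, mem_stabilizer_iff, mul_smul, mul_smul, inv_smul_eq_iff, hta, inv_smul_eq_iff, hkb]
    rw [show g = k * t * (t⁻¹ * k⁻¹ * g) by group, hJcongr k hka _ hk', hJt]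
  have hexp : classInner lam (fun x : N => indFun N lam x) =
      conj ((Nat.card N : ℂ)⁻¹ * ((Nat.card N : ℂ)⁻¹ * ∑ g : G, J g)) := by
    rw [← Chars.conj_classInner]
    congr 1
    simp only [classInner, indFun, hJ]
    congr 1
    rw [Finset.sum_comm, Finset.mul_sum]
    refine Finset.sum_congr rfl fun x _ => ?_
    rw [mul_assoc, Finset.sum_mul]
  change classInner (fun x : N => indFun N lam x) lam = 1
  rw [← Chars.conj_classInner, hexp, Complex.conj_conj]
  have hsum : ∑ g : G, J g = (Nat.card N : ℂ) * (Nat.card N : ℂ) := by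
    rw [← Finset.sum_filter_add_sum_filter_not Finset.univ (fun g => g ∈ N),
      Finset.sum_congr rfl (fun g hg => hJN g (Finset.mem_filter.1 hg).2),
      Finset.sum_eq_zero (s := Finset.univ.filter fun g => g ∉ N)
        (fun g hg => hJout g (Finset.mem_filter.1 hg).2), add_zero, Finset.sum_const,
      nsmul_eq_mul, ← Fintype.card_subtype, ← Nat.card_eq_fintype_card]
  have hN0 : (Nat.card N : ℂ) ≠ 0 := Nat.cast_ne_zero.2 Nat.card_pos.ne'
  rw [hsum]
  field_simp

end Cfsg.Agent.Lib.Zassenhaus.InducedLinear
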