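import Mathlib
import Cfsg.Agent.S0878
import Cfsg.Agent.S0881
import Cfsg.Agent.S0853
import Cfsg.Agent.Lib.TIFrob.Coherent
import Cfsg.Agent.Lib.Zassenhaus.ClassCount

/-!
Feit's theorem: the exceptional characters of a simple Zassenhaus group with two-point stabilisers of
small odd order cannot be coherent unless the kernel of a point stabiliser is abelian.
-/

set_option autoImplicit false
set_option maxHeartbeats 400000

namespace Cfsg.Agent.Lib.Zassenhaus.Coherent

open MulAction Cfsg Cfsg.Agent.Lib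
open scoped ComplexConjugate commutatorElement

theorem indFun_congr {G : Type*} [Group G] [Fintype G] {A B : Subgroup G} (h : A = B) (θ : A → ℂ) :
    indFun A θ = indFun B fun x => θ ⟨x, h ▸ x.2⟩ := by
  subst h; rfl

theorem one_le_normSq_of_rat {z : ℂ} (hz : IsIntegral ℤ z) (q : ℚ) (hq : z = q) (hne : z ≠ 0) :
    1 ≤ Complex.normSq z := by
  obtain ⟨k, rfl⟩ := Chars.exists_int_eq_of_isIntegral hz q hq
  have hk : k ≠ 0 := fun h => hne (by simp [h])
  rw [← Complex.ofReal_intCast, Complex.normSq_ofReal]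
  have : (1 : ℤ) ≤ k * k := by
    rcases lt_or_gt_of_ne hk with h | h <;> nlinarith
  exact_mod_cast this

variable {G Ω : Type*} [Group G] [Fintype G] [MulAction G Ω] [Fintype Ω]

/-- The standing data. -/
structure Setup (H : Subgroup G) (a b : Ω) (h e : ℕ) : Prop where
  zass : Cfsg.IsZassenhausGroup G Ω
  ne : a ≠ b
  card : Fintype.card Ω = h + 1
  pair : Nat.card ↥(stabilizer G a ⊓ stabilizer G b) = e
  odd : Odd e
  small : 2 * e < h - 1
  le : H ≤ stabilizer G a
  cardH : Nat.card H + 1 = Fintype.card Ω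
  fix : ∀ u ∈ H, u ≠ 1 → ∀ c : Ω, u • c = c → c = a

namespace Setup

variable {H : Subgroup G} {a b : Ω} {h e : ℕ}

theorem normalizer_eq (s : Setup H a b h e) :
    Subgroup.normalizer (H : Set G) = stabilizer G a :=
  (Cfsg.Agent.S0878.result s.zass a H s.le s.cardH s.fix).2

theorem tiSubgroup (s : Setup H a b h e) : ∀ g : G, g ∉ Subgroup.normalizer (H : Set G) →
    ∀ k ∈ H, g * k * g⁻¹ ∈ H → k = 1 := by
  rw [s.normalizer_eq]
  exact (Cfsg.Agent.S0878.result s.zass a H s.le s.cardH s.fix).1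

theorem cardH_eq (s : Setup H a b h e) : Nat.card H = h := by
  have h1 := s.cardH
  have h2 := s.card
  omega

theorem two_le_h (s : Setup H a b h e) : 3 ≤ h := by
  have h1 := s.small
  obtain ⟨j, hj⟩ := s.odd
  omega

theorem transitive (s : Setup H a b h e) (y : Ω) (hy : y ≠ a) : ∃ k ∈ H, k • b = y := by
  classical
  have hb := s.ne.symm
  have hbij : Function.Bijective (fun k : H => (⟨(k : G) • b, fun e' => hb
      (smul_left_cancel (k : G) (e'.trans (mem_stabilizer_iff.1 (s.le k.2)).symm))⟩ : {y : Ω // y ≠ a})) := by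
    refine (Nat.bijective_iff_injective_and_card _).2 ⟨fun k l hkl => ?_, ?_⟩
    · have e' : (k : G) • b = (l : G) • b := congrArg Subtype.val hkl
      by_contra hne
      refine hb (s.fix _ (H.mul_mem (H.inv_mem l.2) k.2) (fun h1 => hne ?_) b
        (by rw [mul_smul, e', inv_smul_smul]))
      exact Subtype.ext (inv_mul_eq_one.1 h1).symm
    · rw [Nat.card_eq_fintype_card (α := {y : Ω // y ≠ a}), Fintype.card_subtype_compl,
        Fintype.card_subtype_eq]
      have := s.cardH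
      omega
  obtain ⟨k, hk⟩ := hbij.2 ⟨y, hy⟩
  exact ⟨k, k.2, congrArg Subtype.val hk⟩

theorem centralizer_le (s : Setup H a b h e) :
    ∀ k ∈ H, k ≠ 1 → Subgroup.centralizer ({k} : Set G) ≤ H := by
  intro k hk hk1 x hx
  rw [Subgroup.mem_centralizer_singleton_iff] at hx
  have hxa : x • a = a := s.fix k hk hk1 _ (by
    rw [← mul_smul, ← hx, mul_smul, mem_stabilizer_iff.1 (s.le hk)])
  by_cases hd : ∃ d, d ≠ a ∧ x • d = d
  · obtain ⟨d, hd, hxd⟩ := hd
    have : x = 1 := s.zass.2.2.1 x a d (k • d) (Ne.symm hd)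
      (fun e' => hd (s.fix k hk hk1 d e'.symm)) (fun e' => hd (smul_left_cancel k
        (e'.symm.trans (mem_stabilizer_iff.1 (s.le hk)).symm))) hxa hxd
      (by rw [← mul_smul, hx, mul_smul, hxd])
    rw [this]
    exact one_mem H
  · push Not at hd
    obtain ⟨l, hl, hlb⟩ := s.transitive (x • b)
      (fun e' => s.ne.symm (smul_left_cancel x (e'.trans hxa.symm)))
    -- `l⁻¹ * x` lies in the two-point stabiliser
    haveI := s.zass.1
    obtain ⟨K, hK⟩ := exists_isKer (G := G) (Ω := Ω) s.zass.2.1 s.zass.2.2.1 s.zass.2.2.2.1 a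
    have hxK : x ∈ K := (hK.mem_iff x).2 ⟨hxa, Or.inr hd⟩
    have hlK : l ∈ K := (hK.mem_iff l).2 ⟨s.le hl, (em (l = 1)).imp_right
      fun hl1 y hy e' => hy (s.fix l hl hl1 y e')⟩
    have h1 := hK.eq_one (mul_mem (inv_mem hlK) hxK) s.ne.symm
      (by rw [mul_smul, ← hlb, inv_smul_smul])
    rw [← inv_mul_eq_one.1 h1]
    exact hl

theorem card_normalizer (s : Setup H a b h e) : Nat.card ↥(Subgroup.normalizer (H : Set G)) = h * e := by
  have h1 := SimpleOdd.card_stabilizer_eq s.zass.2.1 s.ne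
  rw [s.card, s.pair] at h1
  rw [s.normalizer_eq, h1, Nat.add_sub_cancel]

theorem card_kerIn (s : Setup H a b h e) : Nat.card (H.subgroupOf (Subgroup.normalizer (H : Set G))) = h := by
  rw [Nat.card_congr (Subgroup.subgroupOfEquivOfLe Subgroup.le_normalizer).toEquiv, s.cardH_eq]

theorem index_kerIn (s : Setup H a b h e) : ((H.subgroupOf (Subgroup.normalizer (H : Set G)))).index = e := by
  have h1 := ((H.subgroupOf (Subgroup.normalizer (H : Set G)))).card_mul_index
  rw [s.card_kerIn, s.card_normalizer] at h1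
  exact Nat.eq_of_mul_eq_mul_left (by have := s.two_le_h; omega) h1

theorem lt_normalizer (s : Setup H a b h e) : H < Subgroup.normalizer (H : Set G) := by
  refine lt_of_le_of_ne Subgroup.le_normalizer fun e' => ?_
  have h1 := s.card_normalizer
  rw [show Nat.card ↥(Subgroup.normalizer (H : Set G)) = Nat.card H by rw [← e'], s.cardH_eq] at h1
  have h2 := s.two_le_h
  have he : e = 1 := (Nat.mul_eq_left (by omega)).1 h1.symm
  exact SimpleOdd.pair_ne_bot s.zass s.ne (Subgroup.card_eq_one.1 (s.pair.trans he))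

/-- The quotient of the stabiliser by the kernel is commutative. -/
theorem commutator_mem [IsSimpleGroup G] (s : Setup H a b h e) (x y : ↥(Subgroup.normalizer (H : Set G))) :
    x * y * x⁻¹ * y⁻¹ ∈ (H.subgroupOf (Subgroup.normalizer (H : Set G))) := by
  have : ((H.subgroupOf (Subgroup.normalizer (H : Set G)))).Normal := Subgroup.normal_in_normalizer
  have hcyc := (SimpleOdd.simple_inverts s.zass s.ne (s.pair.symm ▸ s.odd)).1
  have hdec : ∀ z : ↥(Subgroup.normalizer (H : Set G)), ∃ z' : ↥(Subgroup.normalizer (H : Set G)), (z' : G) ∈ stabilizer G a ⊓ stabilizer G b ∧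
      (z : ↥(Subgroup.normalizer (H : Set G)) ⧸ (H.subgroupOf (Subgroup.normalizer (H : Set G)))) = z' := by
    intro z
    have hza : (z : G) ∈ stabilizer G a := s.normalizer_eq.le z.2
    obtain ⟨k, hk, hkb⟩ := s.transitive ((z : G) • b)
      (fun e' => s.ne.symm (smul_left_cancel (z : G) (e'.trans (mem_stabilizer_iff.1 hza).symm)))
    let k' : ↥(Subgroup.normalizer (H : Set G)) := ⟨k, Subgroup.le_normalizer hk⟩
    refine ⟨k'⁻¹ * z, ⟨(stabilizer G a).mul_mem (inv_mem (s.le hk)) hza, ?_⟩, ?_⟩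
    · show ((k : G)⁻¹ * (z : G)) • b = b
      rw [mul_smul, ← hkb, inv_smul_smul]
    · rw [QuotientGroup.mk_mul, QuotientGroup.mk_inv,
        (QuotientGroup.eq_one_iff k').2 (Subgroup.mem_subgroupOf.2 hk), inv_one, one_mul]
  obtain ⟨x', hx', ex⟩ := hdec x
  obtain ⟨y', hy', ey⟩ := hdec y
  have hc : x' * y' = y' * x' := by
    obtain ⟨g, hg⟩ := hcyc
    obtain ⟨i, hi⟩ := hg ⟨(x' : G), hx'⟩
    obtain ⟨j, hj⟩ := hg ⟨(y' : G), hy'⟩
    refine Subtype.ext ?_
    have : (⟨(x' : G), hx'⟩ : ↥(stabilizer G a ⊓ stabilizer G b)) * ⟨(y' : G), hy'⟩ =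
        ⟨(y' : G), hy'⟩ * ⟨(x' : G), hx'⟩ := by
      rw [← hi, ← hj, ← zpow_add, ← zpow_add, add_comm]
    exact congrArg (fun z : ↥(stabilizer G a ⊓ stabilizer G b) => (z : G)) this
  rw [← QuotientGroup.eq_one_iff, QuotientGroup.mk_mul, QuotientGroup.mk_mul, QuotientGroup.mk_mul,
    QuotientGroup.mk_inv, QuotientGroup.mk_inv, ex, ey, ← QuotientGroup.mk_mul, hc,
    QuotientGroup.mk_mul, mul_inv_cancel_right, mul_inv_cancel]

variable [Fintype ↥(Subgroup.normalizer (H : Set G))]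

open Classical in
theorem linear_of_not_relevant [IsSimpleGroup G] (s : Setup H a b h e) (χ : IrrCharacter ↥(Subgroup.normalizer (H : Set G)))
    (hχ : ¬ TIFrob.Relevant (H.subgroupOf (Subgroup.normalizer (H : Set G))) (χ : ↥(Subgroup.normalizer (H : Set G)) → ℂ)) : (χ : ↥(Subgroup.normalizer (H : Set G)) → ℂ) 1 = 1 := by
  have : ((H.subgroupOf (Subgroup.normalizer (H : Set G)))).Normal := Subgroup.normal_in_normalizer
  obtain ⟨ψ, hψ⟩ := Chars.exists_irr_quotient (H.subgroupOf (Subgroup.normalizer (H : Set G))) χ fun x hx => TIFrob.not_relevant hχ hx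
  have : IsMulCommutative (↥(Subgroup.normalizer (H : Set G)) ⧸ (H.subgroupOf (Subgroup.normalizer (H : Set G)))) := ⟨⟨fun p q => by
    obtain ⟨x, rfl⟩ := QuotientGroup.mk_surjective p
    obtain ⟨y, rfl⟩ := QuotientGroup.mk_surjective q
    have h1 := (QuotientGroup.eq_one_iff _).2 (s.commutator_mem x y)
    rw [QuotientGroup.mk_mul, QuotientGroup.mk_mul, QuotientGroup.mk_mul, QuotientGroup.mk_inv,
      QuotientGroup.mk_inv, mul_inv_eq_one, mul_inv_eq_iff_eq_mul] at h1
    exact h1⟩⟩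
  rw [← hψ 1, QuotientGroup.mk_one]
  exact Chars.irr_apply_one_of_comm ψ

open Classical in
/-- A character with positive multiplicity of the principal character of `H` is `1` on `H#` or
occurs in the permutation character. -/
theorem dichotomy [IsSimpleGroup G] (s : Setup H a b h e) (ψ : IrrCharacter G)
    (hψ : ∑ k : (H.subgroupOf (Subgroup.normalizer (H : Set G))), (ψ : G → ℂ) ((k : ↥(Subgroup.normalizer (H : Set G))) : G) ≠ 0) :
    (∀ u ∈ H, u ≠ 1 → (ψ : G → ℂ) u = 1) ∨
      classInner (indFun (Subgroup.normalizer (H : Set G)) fun _ => (1 : ℂ)) (ψ : G → ℂ) ≠ 0 := by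
  have : ((H.subgroupOf (Subgroup.normalizer (H : Set G)))).Normal := Subgroup.normal_in_normalizer
  have hC' := TIFrob.centralizer_le_subgroupOf H s.centralizer_le
  have hres : IsCharacter ↥(Subgroup.normalizer (H : Set G)) (fun x : ↥(Subgroup.normalizer (H : Set G)) => (ψ : G → ℂ) x) :=
    Chars.isCharacter_restrict _ (Chars.irr_isCharacter ψ)
  have hdec := Chars.isCharacter_eq_sum_classInner hres
  obtain ⟨χ, hc, hsum⟩ : ∃ χ : IrrCharacter ↥(Subgroup.normalizer (H : Set G)),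
      classInner (fun x : ↥(Subgroup.normalizer (H : Set G)) => (ψ : G → ℂ) x) (χ : ↥(Subgroup.normalizer (H : Set G)) → ℂ) ≠ 0 ∧
        ∑ k : (H.subgroupOf (Subgroup.normalizer (H : Set G))), (χ : ↥(Subgroup.normalizer (H : Set G)) → ℂ) k ≠ 0 := by
    by_contra hno
    push Not at hno
    refine hψ ?_
    have hk : ∀ k : (H.subgroupOf (Subgroup.normalizer (H : Set G))),
        (ψ : G → ℂ) ((k : ↥(Subgroup.normalizer (H : Set G))) : G) = _ :=
      fun k => congrFun hdec (k : ↥(Subgroup.normalizer (H : Set G)))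
    rw [Finset.sum_congr rfl fun k _ => hk k]
    simp only [Finset.sum_apply, Pi.smul_apply, smul_eq_mul]
    rw [Finset.sum_comm]
    refine Finset.sum_eq_zero fun χ _ => ?_
    rw [← Finset.mul_sum, mul_eq_zero, or_iff_not_imp_left]
    exact hno χ
  have hrel : ¬ TIFrob.Relevant (H.subgroupOf (Subgroup.normalizer (H : Set G))) (χ : ↥(Subgroup.normalizer (H : Set G)) → ℂ) := fun hr =>
    hsum (TIFrob.sum_kernel_eq_zero hC' χ hr)
  have h1 := s.linear_of_not_relevant χ hrel
  have hinner : classInner (indFun (Subgroup.normalizer (H : Set G)) (χ : ↥(Subgroup.normalizer (H : Set G)) → ℂ)) (ψ : G → ℂ) ≠ 0 := by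
    rw [Chars.classInner_indFun_left _ _ _ (Chars.irr_isClassFunction ψ), ← Chars.conj_classInner,
      map_ne_zero]
    exact hc
  by_cases hχ1 : (χ : ↥(Subgroup.normalizer (H : Set G)) → ℂ) = fun _ => 1
  · exact Or.inr (hχ1 ▸ hinner)
  refine Or.inl ?_
  rw [indFun_congr s.normalizer_eq] at hinner
  have hodd' : Odd (Nat.card ↥(stabilizer G a ⊓ stabilizer G b)) := s.pair.symm ▸ s.odd
  let μ : stabilizer G a → ℂ := fun x => (χ : ↥(Subgroup.normalizer (H : Set G)) → ℂ) ⟨x, s.normalizer_eq.ge x.2⟩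
  let ι : stabilizer G a →* ↥(Subgroup.normalizer (H : Set G)) := Subgroup.inclusion s.normalizer_eq.ge
  have hμ : IsCharacter (stabilizer G a) μ := Chars.isCharacter_comp ι (Chars.irr_isCharacter χ)
  obtain ⟨hirr, hval⟩ := Cfsg.Agent.S0881.result s.zass s.ne hodd'
    (by rw [s.pair, s.card]; have := s.small; omega) H s.le s.cardH s.fix μ
    ⟨hμ, h1⟩ (fun u hu => by
      show (χ : ↥(Subgroup.normalizer (H : Set G)) → ℂ) _ = 1
      rw [TIFrob.not_relevant hrel (Subgroup.mem_subgroupOf.2 hu), h1])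
    (fun e' => hχ1 (funext fun x => congrFun e' ⟨x, s.normalizer_eq.le x.2⟩))
  set F : G → ℂ := indFun (stabilizer G a) μ with hF
  have heq : (⟨F, hirr⟩ : IrrCharacter G) = ψ := by
    by_contra hne
    exact hinner (Chars.classInner_irr_of_ne (χ := ⟨F, hirr⟩) hne)
  intro u hu hu1
  rw [← heq]
  exact hval u hu hu1

omit [Fintype ↥(Subgroup.normalizer (H : Set G))] in
theorem indFun_one_degree (s : Setup H a b h e) :
    indFun (Subgroup.normalizer (H : Set G)) (fun _ => (1 : ℂ)) 1 = (h + 1 : ℕ) := by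
  rw [Chars.indFun_one_eq, mul_one, s.normalizer_eq, index_stabilizer]
  have := isPretransitive_of_is_two_pretransitive (h2 := s.zass.2.1)
  rw [MulAction.orbit_eq_univ, Set.ncard_univ, Nat.card_eq_fintype_card, s.card]

open Classical in
/-- The constituents of the permutation character other than the principal one have total degree at
most `h`. -/
theorem perm_degree_le (s : Setup H a b h e) (T : Finset (IrrCharacter G))
    (hT : ∀ ψ ∈ T, classInner (indFun (Subgroup.normalizer (H : Set G)) fun _ => (1 : ℂ))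
      (ψ : G → ℂ) ≠ 0) (hT1 : Chars.trivialIrr G ∉ T) (d : IrrCharacter G → ℕ)
    (hd : ∀ ψ ∈ T, (ψ : G → ℂ) 1 = d ψ) : ∑ ψ ∈ T, d ψ ≤ h := by
  set f := indFun (Subgroup.normalizer (H : Set G)) fun _ : ↥(Subgroup.normalizer (H : Set G)) => (1 : ℂ) with hf
  have hfc : IsCharacter G f :=
    Chars.isCharacter_indFun _ (Chars.isCharacter_of_isIrrCharacter Chars.isIrrCharacter_one)
  choose c hc using fun χ : IrrCharacter G =>
    Chars.isCharacter_classInner_nat hfc (Chars.irr_isCharacter χ)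
  choose n hn0 hn using fun χ : IrrCharacter G => Chars.isIrrCharacter_exists_degree_pos χ.2
  have hval : ((h + 1 : ℕ) : ℂ) = ((∑ χ : IrrCharacter G, c χ * n χ : ℕ) : ℂ) := by
    rw [← s.indFun_one_degree, ← hf]
    conv_lhs => rw [Chars.isCharacter_eq_sum_classInner hfc]
    push_cast
    simp only [Finset.sum_apply, Pi.smul_apply, smul_eq_mul, hc, hn]
  have hsum : ∑ χ : IrrCharacter G, c χ * n χ = h + 1 := (Nat.cast_injective hval).symm
  have hc1 : c (Chars.trivialIrr G) = 1 := by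
    have h1 := hc (Chars.trivialIrr G)
    rw [hf, Chars.classInner_indFun_left _ _ _ (Chars.irr_isClassFunction _)] at h1
    have h2 := Chars.classInner_irr_self (Chars.trivialIrr ↥(Subgroup.normalizer (H : Set G)))
    simp only [Chars.trivialIrr] at h1 h2
    rw [h2] at h1
    exact_mod_cast h1.symm
  have hn1 : n (Chars.trivialIrr G) = 1 := by
    have h1 := hn (Chars.trivialIrr G)
    simp only [Chars.trivialIrr] at h1
    exact_mod_cast h1.symm
  have h3 : ∑ χ ∈ insert (Chars.trivialIrr G) T, c χ * n χ ≤ h + 1 :=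
    hsum ▸ Finset.sum_le_univ_sum_of_nonneg fun _ => Nat.zero_le _
  rw [Finset.sum_insert hT1, hc1, hn1] at h3
  have h4 : ∑ ψ ∈ T, d ψ ≤ ∑ χ ∈ T, c χ * n χ := Finset.sum_le_sum fun ψ hψ => by
    have hcne : c ψ ≠ 0 := fun h0 => hT ψ hψ (by rw [hc, h0, Nat.cast_zero])
    have he : d ψ = n ψ := Nat.cast_injective ((hd ψ hψ).symm.trans (hn ψ))
    rw [he]
    exact Nat.le_mul_of_pos_left _ (Nat.pos_of_ne_zero hcne)
  omega

open Classical in
omit [Fintype Ω] in
theorem exists_mult (H : Subgroup G) [Fintype ↥(Subgroup.normalizer (H : Set G))] (ψ : IrrCharacter G) :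
    ∃ c : ℕ, ∑ k : (H.subgroupOf (Subgroup.normalizer (H : Set G))), (ψ : G → ℂ) ((k : ↥(Subgroup.normalizer (H : Set G))) : G) = (Nat.card (H.subgroupOf (Subgroup.normalizer (H : Set G))) : ℂ) * c := by
  have hres : IsCharacter (H.subgroupOf (Subgroup.normalizer (H : Set G))) (fun x : (H.subgroupOf (Subgroup.normalizer (H : Set G))) => (ψ : G → ℂ) ((x : ↥(Subgroup.normalizer (H : Set G))) : G)) :=
    Chars.isCharacter_restrict _ (Chars.isCharacter_restrict _ (Chars.irr_isCharacter ψ))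
  obtain ⟨c, hc⟩ := Chars.isCharacter_classInner_nat hres
    (Chars.isCharacter_of_isIrrCharacter (Chars.isIrrCharacter_one (G := (H.subgroupOf (Subgroup.normalizer (H : Set G))))))
  refine ⟨c, ?_⟩
  rw [← hc, classInner, mul_inv_cancel_left₀ Chars.natCard_ne_zero]
  simp

open Classical in
/-- **Feit.** -/
theorem not_coherent [IsSimpleGroup G] (s : Setup H a b h e) (hnil : Group.IsNilpotent H)
    (hna : ¬ IsMulCommutative H) :
    ¬ Cfsg.IsCoherent {χ : ↥(Subgroup.normalizer (H : Set G)) → ℂ | IsIrrCharacter ↥(Subgroup.normalizer (H : Set G)) χ ∧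
        ∃ k : ↥(Subgroup.normalizer (H : Set G)), (k : G) ∈ H ∧ χ k ≠ χ 1} {1}ᶜ
      (fun α => indFun (Subgroup.normalizer (H : Set G)) α) := by
  rintro ⟨⟨α, hα, hα0⟩, star, hstar, hext⟩
  set S : Set (↥(Subgroup.normalizer (H : Set G)) → ℂ) := {χ : ↥(Subgroup.normalizer (H : Set G)) → ℂ | IsIrrCharacter ↥(Subgroup.normalizer (H : Set G)) χ ∧
    ∃ k : ↥(Subgroup.normalizer (H : Set G)), (k : G) ∈ H ∧ χ k ≠ χ 1} with hSdef
  have : ((H.subgroupOf (Subgroup.normalizer (H : Set G)))).Normal := Subgroup.normal_in_normalizer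
  have hC := s.centralizer_le
  have hC' := TIFrob.centralizer_le_subgroupOf H hC
  have hS' : ∀ χ, χ ∈ S ↔ IsIrrCharacter ↥(Subgroup.normalizer (H : Set G)) χ ∧ TIFrob.Relevant (H.subgroupOf (Subgroup.normalizer (H : Set G))) χ := fun χ => Iff.rfl
  have hh3 := s.two_le_h
  have he0 : (e : ℂ) ≠ 0 := by
    obtain ⟨j, hj⟩ := s.odd
    exact Nat.cast_ne_zero.2 (by omega)
  -- two members
  have htwo : ∃ χ ∈ S, ∃ ξ ∈ S, χ ≠ ξ := by
    by_contra hone
    push Not at hone
    refine hα0 ?_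
    rcases S.eq_empty_or_nonempty with h0 | ⟨χ, hχ⟩
    · have hα' : α ∈ Submodule.span ℤ S := hα.1
      rw [h0, Submodule.span_empty, Submodule.mem_bot] at hα'
      exact hα'
    · have hα' : α ∈ Submodule.span ℤ S := hα.1
      rw [show S = {χ} from Set.eq_singleton_iff_unique_mem.2 ⟨hχ, fun ξ hξ => hone ξ hξ χ hχ⟩,
        Submodule.mem_span_singleton] at hα'
      obtain ⟨n, rfl⟩ := hα'
      have h1 := hα.2 1 (fun h1 => h1 rfl)
      rw [Pi.smul_apply, zsmul_eq_mul, mul_eq_zero, Int.cast_eq_zero] at h1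
      rcases h1 with h1 | h1
      · rw [h1, zero_smul]
      · exact absurd h1 (Chars.irr_apply_one_ne_zero ⟨χ, hχ.1⟩)
  obtain ⟨m, hm⟩ := Cfsg.Agent.S0853.result H s.tiSubgroup s.lt_normalizer hC S hSdef htwo star
    hstar hext
  rw [s.index_kerIn] at hm
  -- the images
  have hsigned := fun (χ : IrrCharacter ↥(Subgroup.normalizer (H : Set G))) (hχ : TIFrob.Relevant (H.subgroupOf (Subgroup.normalizer (H : Set G))) (χ : ↥(Subgroup.normalizer (H : Set G)) → ℂ)) =>
    TIFrob.exists_signed (G := G) (K := H) hS' hstar χ hχ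
  haveI : Nonempty (IrrCharacter G) := ⟨Chars.trivialIrr G⟩
  choose! ε φ hεφ using hsigned
  let R : Finset (IrrCharacter ↥(Subgroup.normalizer (H : Set G))) :=
    Finset.univ.filter fun χ => TIFrob.Relevant (H.subgroupOf (Subgroup.normalizer (H : Set G))) (χ : ↥(Subgroup.normalizer (H : Set G)) → ℂ)
  have hR : ∀ χ, χ ∈ R ↔ TIFrob.Relevant (H.subgroupOf (Subgroup.normalizer (H : Set G))) (χ : ↥(Subgroup.normalizer (H : Set G)) → ℂ) := fun χ => by simp [R]
  have hφinj : Set.InjOn φ (R : Set (IrrCharacter ↥(Subgroup.normalizer (H : Set G)))) := by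
    intro χ hχ ξ hξ heq
    rw [Finset.mem_coe, hR] at hχ hξ
    obtain ⟨hε, -, hin⟩ := hεφ χ hχ
    obtain ⟨-, -, hin'⟩ := hεφ ξ hξ
    have h1 := hin χ hχ
    rw [if_pos rfl, heq, hin' χ hχ] at h1
    by_contra hne
    rw [if_neg hne] at h1
    rcases hε with h0 | h0 <;> rw [h0] at h1 <;> norm_num at h1
  have hφval : ∀ χ ∈ R, ∀ u : ↥(Subgroup.normalizer (H : Set G)), (u : G) ∈ H → u ≠ 1 →
      (φ χ : G → ℂ) u = (ε χ : ℂ) * ((χ : ↥(Subgroup.normalizer (H : Set G)) → ℂ) u + (m : ℂ) * (χ : ↥(Subgroup.normalizer (H : Set G)) → ℂ) 1 / e) := by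
    intro χ hχ u hu hu1
    rw [hR] at hχ
    obtain ⟨hε, hst, -⟩ := hεφ χ hχ
    have h1 := hm _ ⟨χ.2, hχ⟩ u hu hu1
    rw [hst, Pi.smul_apply, smul_eq_mul] at h1
    have hε2 : (ε χ : ℂ) * ε χ = 1 := by rcases hε with h0 | h0 <;> simp [h0]
    linear_combination (ε χ : ℂ) * h1 - (φ χ : G → ℂ) u * hε2
  let out : Finset (IrrCharacter G) := Finset.univ.filter fun ψ => ψ ∉ R.image φ
  have hconst : ∀ ψ ∈ out, ∀ k l : ↥(Subgroup.normalizer (H : Set G)), (k : G) ∈ H → (l : G) ∈ H → k ≠ 1 → l ≠ 1 →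
      (ψ : G → ℂ) k = (ψ : G → ℂ) l := by
    intro ψ hψ k l hk hl hk1 hl1
    obtain ⟨χ₀, h0, -, -, -⟩ := htwo
    refine TIFrob.constant_of_notMem hC hS' hstar hext ⟨χ₀, h0.1⟩ h0.2 ψ (fun χ hχ => ?_) hk hl hk1 hl1
    obtain ⟨hε, hst, -⟩ := hεφ ⟨χ, hχ.1⟩ hχ.2
    have hne : ψ ≠ φ ⟨χ, hχ.1⟩ := fun e' => (Finset.mem_filter.1 hψ).2
      (Finset.mem_image.2 ⟨⟨χ, hχ.1⟩, (hR _).2 hχ.2, e'.symm⟩)
    have key : ∀ z : ℂ, (z = 1 ∨ z = -1) →
        (ψ : G → ℂ) ≠ z • (φ ⟨χ, hχ.1⟩ : G → ℂ) := by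
      intro z hz e'
      rcases hz with rfl | rfl
      · rw [one_smul] at e'; exact hne (Subtype.ext e')
      · obtain ⟨n1, hn1, h1⟩ := Chars.isIrrCharacter_exists_degree_pos ψ.2
        obtain ⟨n2, hn2, h2'⟩ := Chars.isIrrCharacter_exists_degree_pos (φ ⟨χ, hχ.1⟩).2
        have h3 := congrFun e' 1
        rw [Pi.smul_apply, smul_eq_mul, h1, h2', neg_one_mul, eq_neg_iff_add_eq_zero, ← Nat.cast_add,
          Nat.cast_eq_zero] at h3
        omega
    simp only at hst
    rw [hst]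
    refine ⟨key _ ?_, fun e' => key (-(ε ⟨χ, hχ.1⟩ : ℂ)) ?_ (e'.trans (neg_smul _ _).symm)⟩
    · rcases hε with h0' | h0' <;> simp [h0']
    · rcases hε with h0' | h0' <;> simp [h0']
  -- one element
  obtain ⟨u, hu1⟩ : ∃ u : (H.subgroupOf (Subgroup.normalizer (H : Set G))), u ≠ 1 := by
    have : Nontrivial (H.subgroupOf (Subgroup.normalizer (H : Set G))) := Finite.one_lt_card_iff_nontrivial.1 (by rw [s.card_kerIn]; omega)
    exact exists_ne 1
  have huH : ((u : ↥(Subgroup.normalizer (H : Set G))) : G) ∈ H := u.2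
  have hu1N : (u : ↥(Subgroup.normalizer (H : Set G))) ≠ 1 := fun e' => hu1 (Subtype.ext e')
  have hu1G : ((u : ↥(Subgroup.normalizer (H : Set G))) : G) ≠ 1 := fun e' => hu1N (Subtype.ext e')
  -- the column at `u`
  have hcolN : ∑ χ : IrrCharacter ↥(Subgroup.normalizer (H : Set G)), (χ : ↥(Subgroup.normalizer (H : Set G)) → ℂ) u * conj ((χ : ↥(Subgroup.normalizer (H : Set G)) → ℂ) u) =
      ∑ ψ : IrrCharacter G, (ψ : G → ℂ) (u : ↥(Subgroup.normalizer (H : Set G))) * conj ((ψ : G → ℂ) (u : ↥(Subgroup.normalizer (H : Set G)))) := by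
    rw [Chars.column_orthogonality_of_isConj (IsConj.refl _),
      Chars.column_orthogonality_of_isConj (IsConj.refl _)]
    congr 1
    refine Nat.card_congr
      { toFun := fun z => ⟨((z : ↥(Subgroup.normalizer (H : Set G))) : G), Subgroup.mem_centralizer_singleton_iff.2
          (congrArg Subtype.val (Subgroup.mem_centralizer_singleton_iff.1 z.2))⟩
        invFun := fun z => ⟨⟨z, Subgroup.le_normalizer (hC _ huH hu1G z.2)⟩,
          Subgroup.mem_centralizer_singleton_iff.2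
            (Subtype.ext (Subgroup.mem_centralizer_singleton_iff.1 z.2))⟩
        left_inv := fun _ => rfl
        right_inv := fun _ => rfl }
  have hone : ∑ χ ∈ R, (χ : ↥(Subgroup.normalizer (H : Set G)) → ℂ) 1 * (χ : ↥(Subgroup.normalizer (H : Set G)) → ℂ) u = -(e : ℂ) := by
    rw [TIFrob.sum_relevant hC' u.2, if_neg hu1N, s.index_kerIn, zero_sub]
  have hsq : ∑ χ ∈ R, (χ : ↥(Subgroup.normalizer (H : Set G)) → ℂ) 1 * (χ : ↥(Subgroup.normalizer (H : Set G)) → ℂ) 1 = (e : ℂ) * ((h : ℂ) - 1) := by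
    rw [TIFrob.sum_relevant hC' (one_mem _), if_pos rfl, s.index_kerIn, s.card_normalizer]
    push_cast; ring
  have hdeg : ∀ (X : Type _) [Group X] (χ : IrrCharacter X),
      conj ((χ : X → ℂ) 1) = (χ : X → ℂ) 1 := by
    intro X _ χ
    obtain ⟨n, -, hn⟩ := Chars.isIrrCharacter_exists_degree_pos χ.2
    rw [hn, Complex.conj_natCast]
  have hone' : ∑ χ ∈ R, (χ : ↥(Subgroup.normalizer (H : Set G)) → ℂ) 1 * conj ((χ : ↥(Subgroup.normalizer (H : Set G)) → ℂ) u) = -(e : ℂ) := by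
    have h1 := congrArg conj hone
    rw [map_sum, map_neg, Complex.conj_natCast] at h1
    rw [← h1]
    exact Finset.sum_congr rfl fun χ _ => by rw [map_mul, hdeg]
  have hrestN : ∑ χ ∈ Finset.univ.filter (fun χ : IrrCharacter ↥(Subgroup.normalizer (H : Set G)) =>
      ¬ TIFrob.Relevant (H.subgroupOf (Subgroup.normalizer (H : Set G))) (χ : ↥(Subgroup.normalizer (H : Set G)) → ℂ)),
      (χ : ↥(Subgroup.normalizer (H : Set G)) → ℂ) u * conj ((χ : ↥(Subgroup.normalizer (H : Set G)) → ℂ) u) = (e : ℂ) := by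
    rw [← s.index_kerIn, ← TIFrob.sum_not_relevant hC']
    refine Finset.sum_congr rfl fun χ hχ => ?_
    rw [TIFrob.not_relevant (Finset.mem_filter.1 hχ).2 u.2, hdeg]
  have hout : ∑ ψ ∈ out, (ψ : G → ℂ) (u : ↥(Subgroup.normalizer (H : Set G))) * conj ((ψ : G → ℂ) (u : ↥(Subgroup.normalizer (H : Set G)))) =
      (e : ℂ) + 2 * m - (m : ℂ) ^ 2 * ((h : ℂ) - 1) / e := by
    have hsplit := Finset.sum_filter_add_sum_filter_not Finset.univ (fun ψ => ψ ∈ R.image φ)
      (fun ψ : IrrCharacter G => (ψ : G → ℂ) (u : ↥(Subgroup.normalizer (H : Set G))) * conj ((ψ : G → ℂ) (u : ↥(Subgroup.normalizer (H : Set G)))))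
    rw [← hcolN, ← Finset.sum_filter_add_sum_filter_not Finset.univ
      (fun χ : IrrCharacter ↥(Subgroup.normalizer (H : Set G)) => TIFrob.Relevant (H.subgroupOf (Subgroup.normalizer (H : Set G))) (χ : ↥(Subgroup.normalizer (H : Set G)) → ℂ)), hrestN] at hsplit
    rw [Finset.filter_univ_mem, Finset.sum_image hφinj] at hsplit
    have hin : ∑ χ ∈ R, (φ χ : G → ℂ) (u : ↥(Subgroup.normalizer (H : Set G))) * conj ((φ χ : G → ℂ) (u : ↥(Subgroup.normalizer (H : Set G)))) =
        ∑ χ ∈ R, (χ : ↥(Subgroup.normalizer (H : Set G)) → ℂ) u * conj ((χ : ↥(Subgroup.normalizer (H : Set G)) → ℂ) u) +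
          (-2 * (m : ℂ) + (m : ℂ) ^ 2 * ((h : ℂ) - 1) / e) := by
      rw [Finset.sum_congr rfl (g := fun χ : IrrCharacter ↥(Subgroup.normalizer (H : Set G)) =>
          (χ : ↥(Subgroup.normalizer (H : Set G)) → ℂ) u * conj ((χ : ↥(Subgroup.normalizer (H : Set G)) → ℂ) u) +
            ((m : ℂ) / e * ((χ : ↥(Subgroup.normalizer (H : Set G)) → ℂ) 1 * (χ : ↥(Subgroup.normalizer (H : Set G)) → ℂ) u) +
              (m : ℂ) / e * ((χ : ↥(Subgroup.normalizer (H : Set G)) → ℂ) 1 * conj ((χ : ↥(Subgroup.normalizer (H : Set G)) → ℂ) u)) +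
              (m : ℂ) ^ 2 / e ^ 2 * ((χ : ↥(Subgroup.normalizer (H : Set G)) → ℂ) 1 * (χ : ↥(Subgroup.normalizer (H : Set G)) → ℂ) 1))) fun χ hχ => ?_]
      · rw [Finset.sum_add_distrib, Finset.sum_add_distrib, Finset.sum_add_distrib,
          ← Finset.mul_sum, ← Finset.mul_sum, ← Finset.mul_sum, hone, hone', hsq]
        field_simp
        ring
      · obtain ⟨hε, -, -⟩ := hεφ χ ((hR χ).1 hχ)
        rw [hφval χ hχ u huH hu1N, map_mul, map_add, map_div₀, map_mul, hdeg, Complex.conj_natCast,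
          map_intCast, map_intCast]
        have hε2 : (ε χ : ℂ) * ε χ = 1 := by rcases hε with h0 | h0 <;> simp [h0]
        field_simp
        linear_combination ((e : ℂ) * (χ : ↥(Subgroup.normalizer (H : Set G)) → ℂ) u + (m : ℂ) * (χ : ↥(Subgroup.normalizer (H : Set G)) → ℂ) 1) *
          ((e : ℂ) * conj ((χ : ↥(Subgroup.normalizer (H : Set G)) → ℂ) u) + (m : ℂ) * (χ : ↥(Subgroup.normalizer (H : Set G)) → ℂ) 1) * hε2
    rw [hin] at hsplit
    linear_combination hsplit
  -- those outside take equal values and at most one vanishes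
  have hsum : ∀ ψ ∈ out, ∃ c : ℕ, (ψ : G → ℂ) 1 + ((h : ℂ) - 1) * (ψ : G → ℂ) (u : ↥(Subgroup.normalizer (H : Set G))) =
      (h : ℂ) * c ∧ (c ≠ 0 → ∑ k : (H.subgroupOf (Subgroup.normalizer (H : Set G))), (ψ : G → ℂ) ((k : ↥(Subgroup.normalizer (H : Set G))) : G) ≠ 0) := by
    intro ψ hψ
    obtain ⟨c, hc⟩ := exists_mult H ψ
    rw [s.card_kerIn] at hc
    refine ⟨c, ?_, fun hc0 => ?_⟩
    · rw [← hc, ← Finset.add_sum_erase _ _ (Finset.mem_univ (1 : (H.subgroupOf (Subgroup.normalizer (H : Set G))))),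
        Finset.sum_congr rfl (g := fun _ => (ψ : G → ℂ) (u : ↥(Subgroup.normalizer (H : Set G)))) fun k hk => ?_, Finset.sum_const,
        Finset.card_erase_of_mem (Finset.mem_univ _), Finset.card_univ, ← Nat.card_eq_fintype_card,
        s.card_kerIn, nsmul_eq_mul, Nat.cast_sub (by omega), Nat.cast_one]
      · simp
      · exact hconst ψ hψ k u k.2 huH (fun e' => Finset.ne_of_mem_erase hk (Subtype.ext e')) hu1N
    · rw [hc]
      exact mul_ne_zero (Nat.cast_ne_zero.2 (by omega)) (Nat.cast_ne_zero.2 hc0)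
  have hbig : ∀ ψ ∈ out, (ψ : G → ℂ) (u : ↥(Subgroup.normalizer (H : Set G))) ≠ 0 →
      1 ≤ Complex.normSq ((ψ : G → ℂ) (u : ↥(Subgroup.normalizer (H : Set G)))) := by
    intro ψ hψ hne
    obtain ⟨c, hc, -⟩ := hsum ψ hψ
    obtain ⟨n, -, hn⟩ := Chars.isIrrCharacter_exists_degree_pos ψ.2
    refine one_le_normSq_of_rat (Chars.irr_isIntegral ψ _) (((h : ℚ) * c - n) / ((h : ℚ) - 1)) ?_ hne
    have hh1 : ((h : ℂ) - 1) ≠ 0 := by
      rw [sub_ne_zero, ← Nat.cast_one, Ne, Nat.cast_inj]; omega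
    push_cast
    rw [eq_div_iff hh1]
    linear_combination hc - hn
  have hzero : ∀ ψ ∈ out, (ψ : G → ℂ) (u : ↥(Subgroup.normalizer (H : Set G))) = 0 →
      classInner (indFun (Subgroup.normalizer (H : Set G)) fun _ => (1 : ℂ)) (ψ : G → ℂ) ≠ 0 ∧
        ψ ≠ Chars.trivialIrr G ∧ ∀ n : ℕ, (ψ : G → ℂ) 1 = n → h ≤ n := by
    intro ψ hψ h0
    obtain ⟨c, hc, hc'⟩ := hsum ψ hψ
    rw [h0, mul_zero, add_zero] at hc
    have hc0 : c ≠ 0 := fun h1 => Chars.irr_apply_one_ne_zero ψ (by rw [hc, h1, Nat.cast_zero, mul_zero])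
    refine ⟨(s.dichotomy ψ (hc' hc0)).resolve_left fun h1 => ?_, fun e' => ?_, fun n hn => ?_⟩
    · rw [h1 _ huH hu1G] at h0
      exact one_ne_zero h0
    · rw [e'] at h0
      exact one_ne_zero h0
    · rw [hc, ← Nat.cast_mul, Nat.cast_inj] at hn
      rw [← hn]
      exact Nat.le_mul_of_pos_right _ (Nat.pos_of_ne_zero hc0)
  choose n hn0 hn using fun χ : IrrCharacter G => Chars.isIrrCharacter_exists_degree_pos χ.2
  let Z := out.filter fun ψ : IrrCharacter G => (ψ : G → ℂ) (u : ↥(Subgroup.normalizer (H : Set G))) = 0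
  have hperm : ∀ T : Finset (IrrCharacter G), (∀ ψ ∈ T, classInner
      (indFun (Subgroup.normalizer (H : Set G)) fun _ => (1 : ℂ)) (ψ : G → ℂ) ≠ 0 ∧
      ψ ≠ Chars.trivialIrr G) → ∑ ψ ∈ T, n ψ ≤ h :=
    fun T hT => s.perm_degree_le T (fun ψ hψ => (hT ψ hψ).1) (fun h1 => (hT _ h1).2 rfl) n
      fun ψ _ => hn ψ
  have hZ1 : Z.card ≤ 1 := by
    by_contra hlt
    obtain ⟨p, hp, p', hp', hne⟩ := Finset.one_lt_card.1 (not_le.1 hlt)
    have hp2 := hzero p (Finset.mem_filter.1 hp).1 (Finset.mem_filter.1 hp).2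
    have hp2' := hzero p' (Finset.mem_filter.1 hp').1 (Finset.mem_filter.1 hp').2
    have h1 := hperm {p, p'} fun ψ hψ => by
      rcases Finset.mem_insert.1 hψ with rfl | hψ
      · exact ⟨hp2.1, hp2.2.1⟩
      · rw [Finset.mem_singleton.1 hψ]; exact ⟨hp2'.1, hp2'.2.1⟩
    rw [Finset.sum_pair hne] at h1
    have h2 := hp2.2.2 _ (hn p)
    have h3 := hp2'.2.2 _ (hn p')
    omega
  -- many characters lie outside
  have hcount : R.card + e + 1 ≤ Fintype.card (ConjClasses G) := by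
    let meet : Finset (ConjClasses G) :=
      Finset.univ.filter fun C => ∃ g : G, g ∈ H ∧ g ≠ 1 ∧ ConjClasses.mk g = C
    have hRle : R.card ≤ meet.card := by
      have hrep : ∀ C : {C // C ∈ meet}, ∃ g : ↥(Subgroup.normalizer (H : Set G)),
          (g : G) ∈ H ∧ g ≠ 1 ∧ ConjClasses.mk (g : G) = C.1 := by
        rintro ⟨C, hC⟩
        obtain ⟨g, hg, hg1, hgC⟩ := (Finset.mem_filter.1 hC).2
        exact ⟨⟨g, Subgroup.le_normalizer hg⟩, hg, fun e' => hg1 (congrArg Subtype.val e'), hgC⟩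
      choose r hrH hr1 hrC using hrep
      have hli : LinearIndependent ℂ
          (fun χ : {χ // χ ∈ R} => fun C : {C // C ∈ meet} => (χ.1 : ↥(Subgroup.normalizer (H : Set G)) → ℂ) (r C)) := by
        refine Fintype.linearIndependent_iff.2 fun g hg => ?_
        set f : ↥(Subgroup.normalizer (H : Set G)) → ℂ := ∑ χ : {χ // χ ∈ R}, g χ • (χ.1 : ↥(Subgroup.normalizer (H : Set G)) → ℂ) with hf
        have hfz : ∀ x : ↥(Subgroup.normalizer (H : Set G)), x ≠ 1 → f x = 0 := by
          intro x hx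
          by_cases hxH : (x : G) ∈ H
          · have hmem : ConjClasses.mk (x : G) ∈ meet := Finset.mem_filter.2
              ⟨Finset.mem_univ _, x, hxH, fun e' => hx (Subtype.ext e'), rfl⟩
            set C : {C // C ∈ meet} := ⟨_, hmem⟩
            obtain ⟨c, hc⟩ := isConj_iff.1 (ConjClasses.mk_eq_mk_iff_isConj.1 (hrC C))
            have hcN : c ∈ Subgroup.normalizer (H : Set G) := by
              by_contra hcN
              exact hr1 C (Subtype.ext (s.tiSubgroup c hcN _ (hrH C) (by rw [hc]; exact hxH)))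
            have hconj : IsConj (r C) x := isConj_iff.2 ⟨⟨c, hcN⟩, Subtype.ext hc⟩
            have h1 := congrFun hg C
            simp only [Finset.sum_apply, Pi.smul_apply, Pi.zero_apply] at h1 ⊢
            rw [← h1, hf, Finset.sum_apply]
            refine Finset.sum_congr rfl fun χ _ => ?_
            rw [Pi.smul_apply,
              Chars.isClassFunction_apply_eq (Chars.irr_isClassFunction χ.1) hconj]
          · rw [hf, Finset.sum_apply]
            refine Finset.sum_eq_zero fun χ _ => ?_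
            rw [Pi.smul_apply, TIFrob.apply_eq_zero hC' χ.1 ((hR _).1 χ.2)
              (fun h1 => hxH (Subgroup.mem_subgroupOf.1 h1)), smul_zero]
        have hzero' : classInner f (Chars.trivialIrr ↥(Subgroup.normalizer (H : Set G)) : ↥(Subgroup.normalizer (H : Set G)) → ℂ) = 0 := by
          rw [hf, Chars.classInner_sum_left]
          refine Finset.sum_eq_zero fun χ _ => ?_
          rw [Chars.classInner_smul_left, Chars.classInner_irr_of_ne (fun e' => ?_), mul_zero]
          obtain ⟨k, -, hk⟩ := (hR _).1 χ.2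
          rw [e'] at hk
          exact hk rfl
        have hf1 : f 1 = 0 := by
          rw [classInner, Fintype.sum_eq_single (1 : ↥(Subgroup.normalizer (H : Set G))) fun x hx => by rw [hfz x hx, zero_mul]] at hzero'
          simpa [Chars.trivialIrr, Chars.natCard_ne_zero] using hzero'
        have hf0 : f = 0 := funext fun x => by
          by_cases hx : x = 1
          · rw [hx, hf1]; rfl
          · exact hfz x hx
        intro χ
        have h1 := Fintype.linearIndependent_iff.1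
          ((Chars.irr_linearIndependent (G := ↥(Subgroup.normalizer (H : Set G)))).comp (fun χ : {χ // χ ∈ R} => χ.1)
            Subtype.val_injective) g hf0 χ
        exact h1
      have h1 := hli.fintype_card_le_finrank
      rw [Module.finrank_fintype_fun_eq_card, Fintype.card_coe, Fintype.card_coe] at h1
      exact h1
    have havoid := ClassCount.le_card_avoiding s.zass
      (SimpleOdd.simple_inverts s.zass s.ne (s.pair.symm ▸ s.odd)).2 s.ne (s.pair.symm ▸ s.odd)
      s.card s.pair (by have := s.small; omega) H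
      (fun u hu hu1 c => ⟨s.fix u hu hu1 c, fun e' => e' ▸ s.le hu⟩)
    rw [Nat.card_eq_fintype_card, Fintype.card_subtype] at havoid
    set av := Finset.univ.filter fun C : ConjClasses G => ∀ g : G, ConjClasses.mk g = C → g ∉ H
    have hdisj : Disjoint meet av := Finset.disjoint_left.2 fun C hC hC' => by
      obtain ⟨g, hg, -, hgC⟩ := (Finset.mem_filter.1 hC).2
      exact (Finset.mem_filter.1 hC').2 g hgC hg
    have hnot : ConjClasses.mk (1 : G) ∉ meet ∪ av := by
      rw [Finset.mem_union]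
      rintro (hC | hC)
      · obtain ⟨g, -, hg1, hgC⟩ := (Finset.mem_filter.1 hC).2
        rw [ConjClasses.mk_eq_mk_iff_isConj, isConj_one_left] at hgC
        exact hg1 hgC
      · exact (Finset.mem_filter.1 hC).2 1 rfl (one_mem H)
    have h1 := Finset.card_le_univ (insert (ConjClasses.mk (1 : G)) (meet ∪ av))
    rw [Finset.card_insert_of_notMem hnot, Finset.card_union_of_disjoint hdisj] at h1
    omega
  have houtcard : e + 1 ≤ out.card := by
    have h1 : out.card + R.card = Fintype.card (IrrCharacter G) := by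
      rw [← Finset.card_image_of_injOn hφinj, ← Finset.card_univ,
        ← Finset.card_filter_add_card_filter_not (s := Finset.univ) (fun ψ => ψ ∈ R.image φ),
        Finset.filter_univ_mem, add_comm]
    have h2 := Chars.card_irrCharacter (G := G)
    rw [Nat.card_eq_fintype_card, Nat.card_eq_fintype_card] at h2
    omega
  -- hence `m = 0` and one outside character vanishes
  have hlb : ((out.card : ℝ) - Z.card) ≤ (e : ℝ) + 2 * m - (m : ℝ) ^ 2 * ((h : ℝ) - 1) / e := by
    have h1 : ((out.filter fun ψ : IrrCharacter G => ¬ (ψ : G → ℂ) (u : ↥(Subgroup.normalizer (H : Set G))) = 0).card : ℝ) ≤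
        ∑ ψ ∈ out, Complex.normSq ((ψ : G → ℂ) (u : ↥(Subgroup.normalizer (H : Set G)))) := by
      rw [Finset.card_filter, Nat.cast_sum]
      refine Finset.sum_le_sum fun ψ hψ => ?_
      by_cases h0 : (ψ : G → ℂ) (u : ↥(Subgroup.normalizer (H : Set G))) = 0
      · simp [h0]
      · simpa [h0] using hbig ψ hψ h0
    have h2 : (∑ ψ ∈ out, Complex.normSq ((ψ : G → ℂ) (u : ↥(Subgroup.normalizer (H : Set G))))) =
        (e : ℝ) + 2 * m - (m : ℝ) ^ 2 * ((h : ℝ) - 1) / e := by
      apply Complex.ofReal_injective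
      push_cast
      rw [← hout]
      exact Finset.sum_congr rfl fun ψ _ => (Complex.mul_conj _).symm
    rw [← h2]
    refine le_trans ?_ h1
    have h3 : Z.card + (out.filter fun ψ : IrrCharacter G => ¬ (ψ : G → ℂ) (u : ↥(Subgroup.normalizer (H : Set G))) = 0).card =
        out.card := Finset.card_filter_add_card_filter_not (s := out)
      (fun ψ : IrrCharacter G => (ψ : G → ℂ) (u : ↥(Subgroup.normalizer (H : Set G))) = 0)
    rw [sub_le_iff_le_add, ← Nat.cast_add, Nat.cast_le]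
    omega
  have heR : (1 : ℝ) ≤ e := by
    obtain ⟨j, hj⟩ := s.odd
    exact_mod_cast (by omega : 1 ≤ e)
  have hhR : 2 * (e : ℝ) + 1 < h := by
    have := s.small
    exact_mod_cast (by omega : 2 * e + 1 < h)
  have hge : (0 : ℝ) ≤ 2 * m * e - (m : ℝ) ^ 2 * ((h : ℝ) - 1) := by
    have h1 : (e : ℝ) + 1 ≤ out.card := by exact_mod_cast houtcard
    have h2 : (Z.card : ℝ) ≤ 1 := by exact_mod_cast hZ1
    have h3 : 0 ≤ 2 * (m : ℝ) - (m : ℝ) ^ 2 * ((h : ℝ) - 1) / e := by linarith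
    have h4 := mul_nonneg h3 (le_trans zero_le_one heR)
    rwa [sub_mul, div_mul_cancel₀ _ (by linarith : (e : ℝ) ≠ 0)] at h4
  have hm0 : m = 0 := by
    by_contra hne
    rcases lt_or_gt_of_ne hne with hneg | hpos
    · have : (m : ℝ) ≤ -1 := by exact_mod_cast (by omega : m ≤ -1)
      nlinarith
    · have h1 : (1 : ℝ) ≤ m := by exact_mod_cast (by omega : 1 ≤ m)
      have hh : (0 : ℝ) ≤ (h : ℝ) - 1 := by linarith
      have h2 : (m : ℝ) * ((h : ℝ) - 1) ≤ (m : ℝ) ^ 2 * ((h : ℝ) - 1) :=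
        mul_le_mul_of_nonneg_right (by nlinarith) hh
      have h3 : (m : ℝ) * (2 * (e : ℝ)) < (m : ℝ) * ((h : ℝ) - 1) :=
        mul_lt_mul_of_pos_left (by linarith) (by linarith)
      linarith
  subst hm0
  obtain ⟨ψ₁, hψ₁⟩ : Z.Nonempty := by
    rw [Finset.nonempty_iff_ne_empty]
    intro h0
    rw [h0, Finset.card_empty] at hlb
    have h1 : (e : ℝ) + 1 ≤ out.card := by exact_mod_cast houtcard
    norm_num at hlb
    linarith
  -- a member trivial on the derived subgroup of `H`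
  let D : Subgroup ↥(Subgroup.normalizer (H : Set G)) := ⁅(H.subgroupOf (Subgroup.normalizer (H : Set G))), (H.subgroupOf (Subgroup.normalizer (H : Set G)))⁆
  haveI : D.Normal := Subgroup.commutator_normal _ _
  obtain ⟨x, hxK, hxD⟩ : ∃ x : ↥(Subgroup.normalizer (H : Set G)), x ∈ (H.subgroupOf (Subgroup.normalizer (H : Set G))) ∧ x ∉ D := by
    by_contra hall
    push Not at hall
    have hnil' : Group.IsNilpotent (H.subgroupOf (Subgroup.normalizer (H : Set G))) :=
      Group.nilpotent_of_mulEquiv (Subgroup.subgroupOfEquivOfLe Subgroup.le_normalizer).symm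
    have : Nontrivial (H.subgroupOf (Subgroup.normalizer (H : Set G))) := ⟨u, 1, hu1⟩
    have hlt : commutator (H.subgroupOf (Subgroup.normalizer (H : Set G))) < ⊤ := IsSolvable.commutator_lt_top_of_nontrivial _
    refine hlt.ne (Subgroup.map_injective ((H.subgroupOf (Subgroup.normalizer (H : Set G)))).subtype_injective ?_)
    rw [commutator_def, Subgroup.map_commutator, ← MonoidHom.range_eq_map, Subgroup.range_subtype]
    exact le_antisymm (Subgroup.commutator_le_self _) hall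
  obtain ⟨χ0, hχ0x, hχ0D⟩ : ∃ χ : IrrCharacter ↥(Subgroup.normalizer (H : Set G)),
      (χ : ↥(Subgroup.normalizer (H : Set G)) → ℂ) x ≠ (χ : ↥(Subgroup.normalizer (H : Set G)) → ℂ) 1 ∧ ∀ y ∈ D, (χ : ↥(Subgroup.normalizer (H : Set G)) → ℂ) y = (χ : ↥(Subgroup.normalizer (H : Set G)) → ℂ) 1 := by
    have h1 : ¬ IsConj (x : ↥(Subgroup.normalizer (H : Set G)) ⧸ D) 1 := by
      rw [isConj_one_left, QuotientGroup.eq_one_iff]; exact hxD
    rw [Chars.isConj_iff_irr] at h1
    push Not at h1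
    obtain ⟨ψ, hψ⟩ := h1
    refine ⟨Chars.inflate D ψ, ?_, fun y hy => ?_⟩
    · simpa [Chars.inflate] using hψ
    · show (ψ : ↥(Subgroup.normalizer (H : Set G)) ⧸ D → ℂ) (y : ↥(Subgroup.normalizer (H : Set G)) ⧸ D) = (ψ : ↥(Subgroup.normalizer (H : Set G)) ⧸ D → ℂ) ((1 : ↥(Subgroup.normalizer (H : Set G))) : ↥(Subgroup.normalizer (H : Set G)) ⧸ D)
      rw [(QuotientGroup.eq_one_iff y).2 hy, QuotientGroup.mk_one]
  obtain ⟨y, hyD, hy1⟩ : ∃ y, y ∈ D ∧ y ≠ 1 := by
    by_contra hall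
    push Not at hall
    refine hna ⟨⟨fun p q => Subtype.ext ?_⟩⟩
    have h1 := hall ⁅(⟨p, Subgroup.le_normalizer p.2⟩ : ↥(Subgroup.normalizer (H : Set G))), ⟨q, Subgroup.le_normalizer q.2⟩⁆
      (Subgroup.commutator_mem_commutator (Subgroup.mem_subgroupOf.2 p.2) (Subgroup.mem_subgroupOf.2 q.2))
    have h2 := commutatorElement_eq_one_iff_mul_comm.1 h1
    exact congrArg (fun z : ↥(Subgroup.normalizer (H : Set G)) => (z : G)) h2
  have hyK : y ∈ (H.subgroupOf (Subgroup.normalizer (H : Set G))) := Subgroup.commutator_le_self _ hyD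
  have hχ0R : χ0 ∈ R := (hR _).2 ⟨x, hxK, hχ0x⟩
  have hx1 : x ≠ 1 := fun e' => hxD (e' ▸ one_mem D)
  set ψ0 := φ χ0 with hψ0
  obtain ⟨hε, -, -⟩ := hεφ χ0 ((hR _).1 hχ0R)
  have hval : ∀ k : ↥(Subgroup.normalizer (H : Set G)), (k : G) ∈ H → k ≠ 1 →
      (ψ0 : G → ℂ) k = (ε χ0 : ℂ) * (χ0 : ↥(Subgroup.normalizer (H : Set G)) → ℂ) k := fun k hk hk1 => by
    rw [hφval χ0 hχ0R k hk hk1, Int.cast_zero, zero_mul, zero_div, add_zero]
  have hnc : (ψ0 : G → ℂ) x ≠ (ψ0 : G → ℂ) y := by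
    rw [hval x hxK hx1, hval y hyK hy1, hχ0D y hyD]
    intro e'
    refine hχ0x (mul_left_cancel₀ ?_ e')
    rcases hε with h0 | h0 <;> simp [h0]
  obtain ⟨c, hc⟩ := exists_mult H ψ0
  have hc0 : c = 0 := by
    by_contra hne
    have hne' : ∑ k : (H.subgroupOf (Subgroup.normalizer (H : Set G))), (ψ0 : G → ℂ) ((k : ↥(Subgroup.normalizer (H : Set G))) : G) ≠ 0 := by
      rw [hc]
      exact mul_ne_zero (Nat.cast_ne_zero.2 Nat.card_pos.ne') (Nat.cast_ne_zero.2 hne)
    rcases s.dichotomy ψ0 hne' with h1 | h1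
    · refine hnc ?_
      rw [h1 (x : G) hxK (fun e' => hx1 (Subtype.ext e')),
        h1 (y : G) hyK (fun e' => hy1 (Subtype.ext e'))]
    · have hmem := Finset.mem_filter.1 hψ₁
      have h2 := hzero ψ₁ hmem.1 hmem.2
      have hne1 : ψ0 ≠ ψ₁ := fun e' => (Finset.mem_filter.1 hmem.1).2
        (Finset.mem_image.2 ⟨χ0, hχ0R, e'⟩)
      have h3 := hperm {ψ0, ψ₁} fun ψ hψ => by
        rcases Finset.mem_insert.1 hψ with rfl | hψ
        · exact ⟨h1, fun e' => hnc (by rw [e']; rfl)⟩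
        · rw [Finset.mem_singleton.1 hψ]; exact ⟨h2.1, h2.2.1⟩
      rw [Finset.sum_pair hne1] at h3
      have h4 := h2.2.2 _ (hn ψ₁)
      have h5 := hn0 ψ0
      omega
  rw [hc0, Nat.cast_zero, mul_zero, ← Finset.add_sum_erase _ _ (Finset.mem_univ (1 : (H.subgroupOf (Subgroup.normalizer (H : Set G)))))] at hc
  have hker : ∑ k : (H.subgroupOf (Subgroup.normalizer (H : Set G))), (χ0 : ↥(Subgroup.normalizer (H : Set G)) → ℂ) k = 0 := TIFrob.sum_kernel_eq_zero hC' χ0 ((hR _).1 hχ0R)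
  rw [← Finset.add_sum_erase _ _ (Finset.mem_univ (1 : (H.subgroupOf (Subgroup.normalizer (H : Set G)))))] at hker
  rw [Finset.sum_congr rfl (g := fun k : (H.subgroupOf (Subgroup.normalizer (H : Set G))) => (ε χ0 : ℂ) * (χ0 : ↥(Subgroup.normalizer (H : Set G)) → ℂ) k) fun k hk =>
    hval k k.2 (fun e' => Finset.ne_of_mem_erase hk (Subtype.ext e')), ← Finset.mul_sum] at hc
  simp only [OneMemClass.coe_one] at hc hker
  have hdegree : (ψ0 : G → ℂ) 1 = (ε χ0 : ℂ) * (χ0 : ↥(Subgroup.normalizer (H : Set G)) → ℂ) 1 := by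
    linear_combination hc - (ε χ0 : ℂ) * hker
  have hψy : (ψ0 : G → ℂ) (y : G) = (ψ0 : G → ℂ) 1 := by
    rw [hdegree, hval y hyK hy1, hχ0D y hyD]
  obtain ⟨r, ρ, -, hρ⟩ := Chars.irr_exists_rep ψ0
  have hmem : (y : G) ∈ ρ.ker := by
    show ρ (y : G) = 1
    rw [Chars.rep_eq_one_iff, hρ]
    exact hψy
  rcases IsSimpleGroup.eq_bot_or_eq_top_of_normal ρ.ker inferInstance with hk | hk
  · rw [hk, Subgroup.mem_bot] at hmem
    exact hy1 (Subtype.ext hmem)
  · refine hnc ?_
    have hx' : (x : G) ∈ ρ.ker := hk ▸ Subgroup.mem_top _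
    rw [hψy, ← hρ]
    exact (Chars.rep_eq_one_iff ρ _).1 hx'

end Setup

end Cfsg.Agent.Lib.Zassenhaus.Coherent
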