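import Mathlib
import Cfsg.Agent.S1534
import Cfsg.Agent.Lib.Zassenhaus.Coherent
import Cfsg.Agent.Lib.Frobenius.KernelNilpotent
import Cfsg.Agent.Lib.Perm.Feit
import Cfsg.Agent.Lib.Perm.ZassenhausBasics

/-!
Feit's theorem on Zassenhaus groups.
-/

set_option autoImplicit false

universe u v

namespace Cfsg.Agent.Lib.Zassenhaus.Coherent

open MulAction Cfsg Cfsg.Agent.Lib

variable {G : Type u} {Ω : Type v} [Group G] [Fintype G] [MulAction G Ω] [Fintype Ω]
  {H : Subgroup G} {a b : Ω} {h e : ℕ}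

theorem Setup.nilpotent (s : Setup H a b h e) : Group.IsNilpotent H := by
  classical
  haveI : (H.subgroupOf (Subgroup.normalizer (H : Set G))).Normal := Subgroup.normal_in_normalizer
  have he1 : e ≠ 1 := fun h1 =>
    SimpleOdd.pair_ne_bot s.zass s.ne (Subgroup.card_eq_one.1 (s.pair.trans h1))
  set p := e.minFac
  have hp : p.Prime := Nat.minFac_prime he1
  haveI := Fact.mk hp
  obtain ⟨⟨d, hd⟩, hdo⟩ := exists_prime_orderOf_dvd_card' (G := ↥(stabilizer G a ⊓ stabilizer G b)) p
    (s.pair ▸ Nat.minFac_dvd e)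
  rw [Subgroup.orderOf_mk] at hdo
  let d' : ↥(Subgroup.normalizer (H : Set G)) := ⟨d, s.normalizer_eq.ge hd.1⟩
  have hK : Group.IsNilpotent (H.subgroupOf (Subgroup.normalizer (H : Set G))) := by
    refine Coprime.isNilpotent_of_fixedPointFree Frobenius.npcCriterion
      (MulAut.conjNormal d' : MulAut (H.subgroupOf (Subgroup.normalizer (H : Set G))))
      (fun k hk => ?_) hp ?_
    · by_contra hk1
      have e' : d * ((k : ↥(Subgroup.normalizer (H : Set G))) : G) * d⁻¹ = k := by
        have h1 := congrArg (fun z : H.subgroupOf (Subgroup.normalizer (H : Set G)) =>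
          ((z : ↥(Subgroup.normalizer (H : Set G))) : G)) hk
        simpa [MulAut.conjNormal_apply, d'] using h1
      have hdH : d ∈ H := s.centralizer_le _ k.2 (fun h1 => hk1 (Subtype.ext (Subtype.ext h1)))
        (Subgroup.mem_centralizer_singleton_iff.2 (mul_inv_eq_iff_eq_mul.1 e'))
      have hd1 : d ≠ 1 := fun h1 => hp.one_lt.ne (by rw [← hdo, h1, orderOf_one])
      exact s.ne.symm (s.fix d hdH hd1 b hd.2)
    · rw [← map_pow, show d' ^ p = 1 from Subtype.ext (by
        rw [Subgroup.coe_pow, ← hdo, pow_orderOf_eq_one]; rfl), map_one]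
  haveI := hK
  exact Group.nilpotent_of_mulEquiv (Subgroup.subgroupOfEquivOfLe Subgroup.le_normalizer)

/-- Feit's theorem, simple case. -/
theorem Setup.feit_simple [IsSimpleGroup G] (s : Setup H a b h e) :
    IsPGroup 2 H ∧ (∃ u v : H, u * v ≠ v * u) ∧ (commutator H).index ≤ 4 * e ^ 2 + 1 := by
  classical
  have hodd' : Odd (Nat.card ↥(stabilizer G a ⊓ stabilizer G b)) := s.pair.symm ▸ s.odd
  have hna : ¬ IsMulCommutative H := by
    intro hab'
    haveI := s.zass.1
    obtain ⟨K, hK⟩ := exists_isKer s.zass.2.1 s.zass.2.2.1 s.zass.2.2.2.1 a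
    have hKH : ∀ k ∈ K, k ∈ H := by
      intro k hk
      obtain ⟨l, hl, hlb⟩ := s.transitive (k • b)
        (fun e' => s.ne.symm (smul_left_cancel k (e'.trans (hK.fix hk).symm)))
      have hlK : l ∈ K := (hK.mem_iff l).2 ⟨s.le hl, (em (l = 1)).imp_right
        fun hl1 y hy e' => hy (s.fix l hl hl1 y e')⟩
      have h1 := hK.eq_one (mul_mem (inv_mem hlK) hk) s.ne.symm
        (by rw [mul_smul, ← hlb, inv_smul_smul])
      rw [← inv_mul_eq_one.1 h1]
      exact hl
    have hT := Perm.ZassenhausBasics.isKernel_of_isKer hK fun x hx y hy =>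
      congrArg Subtype.val (hab'.is_comm.comm (⟨x, hKH x hx⟩ : H) ⟨y, hKH y hy⟩)
    obtain ⟨t, hta, htb⟩ := is_two_pretransitive_iff.1 s.zass.2.1 s.ne s.ne.symm
    have hinv := (SimpleOdd.simple_inverts s.zass s.ne hodd').2
    have h1 := Perm.Feit.card_le_two_mul s.zass.2.1 s.zass.2.2.1 hT s.ne.symm hodd' (by
        rw [s.pair]
        by_contra hle
        exact SimpleOdd.pair_ne_bot s.zass s.ne (Subgroup.card_eq_one.1 (s.pair.trans (by
          obtain ⟨j, hj⟩ := s.odd; omega)))) hta htb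
      (fun x hx => hinv a b s.ne t hta htb x hx)
    rw [s.card, s.pair] at h1
    have := s.small
    omega
  have hH1 : H ≠ ⊥ := fun h1 => by
    have h2 := s.cardH_eq
    rw [h1, Subgroup.card_bot] at h2
    have := s.two_le_h
    omega
  rcases Cfsg.Agent.S1534.result H hH1 s.nilpotent s.tiSubgroup s.lt_normalizer s.centralizer_le
    with ⟨-, h1, -⟩ | ⟨h1, h2⟩ | h1
  · rw [s.index_kerIn, s.cardH_eq] at h1
    have := s.small
    omega
  · rw [s.index_kerIn] at h2
    refine ⟨IsPGroup.of_card h1, ?_, ?_⟩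
    · by_contra hc
      push Not at hc
      exact hna ⟨⟨hc⟩⟩
    · have h3 : (⁅H, H⁆.subgroupOf H).index = (commutator H).index := by
        congr 1
        refine Subgroup.map_injective H.subtype_injective ?_
        rw [commutator_def, Subgroup.map_commutator, Subgroup.map_subgroupOf_eq_of_le
          (Subgroup.commutator_le_self H), ← MonoidHom.range_eq_map, Subgroup.range_subtype]
      omega
  · exact absurd h1 (s.not_coherent s.nilpotent hna)

end Cfsg.Agent.Lib.Zassenhaus.Coherent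

namespace Cfsg.Agent.Lib.Zassenhaus

open MulAction

/-- **Feit's theorem.** -/
theorem feit {Ω : Type v} [Fintype Ω] : ∀ (n : ℕ) (G : Type u) [Group G] [Finite G] [MulAction G Ω],
    Nat.card G ≤ n → Cfsg.IsZassenhausGroup G Ω → ∀ {a b : Ω}, a ≠ b → ∀ (h e : ℕ),
      Fintype.card Ω = h + 1 → Nat.card ↥(stabilizer G a ⊓ stabilizer G b) = e → Odd e →
      ∀ H : Subgroup G, H ≤ stabilizer G a → Nat.card H + 1 = Fintype.card Ω →
      (∀ u ∈ H, u ≠ 1 → ∀ c : Ω, u • c = c → c = a) →
      h - 1 ≤ 2 * e ∨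
        (IsPGroup 2 H ∧ (∃ u v : H, u * v ≠ v * u) ∧ (commutator H).index ≤ 4 * e ^ 2 + 1) := by
  intro n
  induction n with
  | zero => intro G _ _ _ hn; exact absurd hn (not_le.2 Nat.card_pos)
  | succ n ih =>
    intro G _ _ _ hn hZ a b hab h e hh he hodd H hHa hHcard hHfix
    by_cases hsmall : h - 1 ≤ 2 * e
    · exact Or.inl hsmall
    letI := Fintype.ofFinite G
    by_cases hsimple : IsSimpleGroup G
    · exact Or.inr (Coherent.Setup.feit_simple
        ⟨hZ, hab, hh, he, hodd, not_le.1 hsmall, hHa, hHcard, hHfix⟩)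
    obtain ⟨x, y, hxy⟩ := SimpleOdd.exists_not_comm hZ
    obtain ⟨N, hN, hN1, hN2⟩ : ∃ N : Subgroup G, N.Normal ∧ N ≠ ⊥ ∧ N ≠ ⊤ := by
      by_contra hno
      push Not at hno
      haveI : Nontrivial G := ⟨x, 1, fun h1 => hxy (by rw [h1, one_mul, mul_one])⟩
      exact hsimple ⟨fun N hN => or_iff_not_imp_left.2 fun h1 => hno N hN h1⟩
    haveI := hN
    haveI := hZ.1
    have hZN := isZassenhausGroup_normal hZ N hN1
    obtain ⟨l, hl, hl1, hla, hlb⟩ := exists_fix_pair_normal hZ.2.1 hZ.2.2.2.2 N hN1 hab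
    obtain ⟨K, hK⟩ := exists_isKer hZ.2.1 hZ.2.2.1 hZ.2.2.2.1 a
    have hKN := hK.le_normal hZ.2.2.1 N hl hl1 hab hla hlb
    have hHK : H ≤ K := fun u hu => (hK.mem_iff u).2 ⟨hHa hu, (em (u = 1)).imp_right
      fun hu1 y hy e' => hy (hHfix u hu hu1 y e')⟩
    have hHN : H ≤ N := hHK.trans hKN
    let j : ↥(stabilizer N a ⊓ stabilizer N b) →* ↥(stabilizer G a ⊓ stabilizer G b) :=
      { toFun := fun z => ⟨((z : N) : G), z.2.1, z.2.2⟩
        map_one' := rfl
        map_mul' := fun _ _ => rfl }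
    have hj : Function.Injective j := fun z w hzw =>
      Subtype.ext (Subtype.ext (congrArg (fun q : ↥(stabilizer G a ⊓ stabilizer G b) => (q : G)) hzw))
    have hdvd : Nat.card ↥(stabilizer N a ⊓ stabilizer N b) ∣ e :=
      he ▸ Subgroup.card_dvd_of_injective j hj
    have hlt : Nat.card N < Nat.card G := by
      refine lt_of_le_of_ne (Subgroup.card_le_card_group N) fun h1 => hN2 ?_
      exact Subgroup.eq_top_of_card_eq N h1
    obtain ⟨f, hf⟩ : ∃ f, f = Nat.card ↥(stabilizer N a ⊓ stabilizer N b) := ⟨_, rfl⟩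
    rw [← hf] at hdvd
    have hfe : f ≤ e := Nat.le_of_dvd (by obtain ⟨j, hj⟩ := hodd; omega) hdvd
    have hcardH : Nat.card (H.subgroupOf N) + 1 = Fintype.card Ω := by
      rw [Nat.card_congr (Subgroup.subgroupOfEquivOfLe hHN).toEquiv, hHcard]
    rcases ih N (by omega) hZN hab h f hh hf.symm (Odd.of_dvd_nat hodd hdvd) (H.subgroupOf N)
      (fun u hu => hHa hu) hcardH (fun u hu hu1 c hc => hHfix (u : G) hu
        (fun h1 => hu1 (Subtype.ext h1)) c hc) with h1 | ⟨h1, ⟨u, v, huv⟩, h2⟩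
    · exact absurd (h1.trans (Nat.mul_le_mul_left 2 hfe)) hsmall
    · let φ := Subgroup.subgroupOfEquivOfLe hHN
      refine Or.inr ⟨h1.of_equiv φ, ⟨φ u, φ v, fun h3 => huv (φ.injective (by simpa using h3))⟩, ?_⟩
      have h3 : (commutator H).index = (commutator (H.subgroupOf N)).index := by
        rw [commutator_def, commutator_def,
          ← Subgroup.index_map_equiv ⁅(⊤ : Subgroup (H.subgroupOf N)), ⊤⁆ φ, Subgroup.map_commutator,
          Subgroup.map_top_of_surjective _ φ.surjective]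
      rw [h3]
      exact h2.trans (by gcongr)

end Cfsg.Agent.Lib.Zassenhaus
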