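import Cfsg.Agent.Lib.Zassenhaus.Basic

/-!
# Zassenhaus groups of odd degree
-/

set_option autoImplicit false

namespace Cfsg.Agent.Lib.Zassenhaus

open MulAction Cfsg.Agent.Lib.Perm

variable {G Ω : Type*} [Group G] [MulAction G Ω]

theorem odd_fixed [Finite Ω] (hodd : Odd (Nat.card Ω)) {t : G} (ht : t ^ 2 = 1) :
    Odd (Nat.card {x : Ω // t • x = x}) := by
  have : Fact (Nat.Prime 2) := ⟨Nat.prime_two⟩
  have hp : IsPGroup 2 (Subgroup.zpowers t) := by
    rintro ⟨_, i, rfl⟩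
    exact ⟨1, Subtype.ext (by
      show (t ^ i) ^ (2 ^ 1) = 1
      rw [pow_one, ← zpow_natCast, zpow_comm, zpow_natCast, ht, one_zpow])⟩
  have h := hp.card_modEq_card_fixedPoints Ω
  have e : Nat.card (fixedPoints (Subgroup.zpowers t) Ω) = Nat.card {x : Ω // t • x = x} := by
    refine Nat.card_congr (Equiv.subtypeEquivRight fun x => ⟨fun hx => hx ⟨t, Subgroup.mem_zpowers t⟩,
      fun hx g => ?_⟩)
    obtain ⟨_, i, rfl⟩ := g
    exact (mem_stabilizer_iff.1 ((stabilizer G x).zpow_mem (mem_stabilizer_iff.2 hx) i))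
  rw [e] at h
  rw [Nat.odd_iff] at hodd ⊢
  have h' : Nat.card Ω % 2 = Nat.card {x : Ω // t • x = x} % 2 := h
  omega

theorem card_stab_two_odd [Finite Ω] [FaithfulSMul G Ω] (h3 : ThreeFree G Ω)
    (hodd : Odd (Nat.card Ω)) {a b : Ω} (hab : a ≠ b) :
    Odd (Nat.card ↥(stabilizer G a ⊓ stabilizer G b)) := by
  classical
  have : Finite G := finite_of_faithful (Ω := Ω)
  by_contra hc
  rw [Nat.not_odd_iff_even, even_iff_two_dvd] at hc
  have : Fact (Nat.Prime 2) := ⟨Nat.prime_two⟩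
  obtain ⟨⟨t, ht⟩, ho⟩ := exists_prime_orderOf_dvd_card' 2 hc
  rw [Subgroup.orderOf_mk] at ho
  have ht2 : t ^ 2 = 1 := ho ▸ pow_orderOf_eq_one t
  have hodd' := odd_fixed hodd ht2
  have hfin : Finite {x : Ω // t • x = x} := inferInstance
  let _ := Fintype.ofFinite {x : Ω // t • x = x}
  have h2 : 2 < Fintype.card {x : Ω // t • x = x} := by
    have hle : 2 ≤ Fintype.card {x : Ω // t • x = x} :=
      Fintype.one_lt_card_iff.2 ⟨⟨a, (Subgroup.mem_inf.1 ht).1⟩, ⟨b, (Subgroup.mem_inf.1 ht).2⟩,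
        fun e => hab (congrArg Subtype.val e)⟩
    rw [← Nat.card_eq_fintype_card] at hle ⊢
    rw [Nat.odd_iff] at hodd'
    omega
  obtain ⟨p, q, r, hpq, hpr, hqr⟩ := Fintype.two_lt_card_iff.1 h2
  have := h3 t p q r (fun e => hpq (Subtype.ext e)) (fun e => hqr (Subtype.ext e))
    (fun e => hpr (Subtype.ext e)) p.2 q.2 r.2
  rw [this, orderOf_one] at ho
  omega

/-- In odd degree an involution exchanging `a` and `b` inverts their common stabiliser. -/
theorem inverts_of_swap [Finite Ω] [FaithfulSMul G Ω] (h3 : ThreeFree G Ω)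
    (hodd : Odd (Nat.card Ω)) {a b : Ω} (hab : a ≠ b) {v : G} (hv : v * v = 1)
    (hva : v • a = b) (hvb : v • b = a) :
    ∀ h ∈ stabilizer G a ⊓ stabilizer G b,
      v * h * v = h⁻¹ ∧ ∃ x ∈ stabilizer G a ⊓ stabilizer G b, h = x⁻¹ * v * x * v := by
  classical
  have : Finite G := finite_of_faithful (Ω := Ω)
  have hvinv : v⁻¹ = v := inv_eq_of_mul_eq_one_right hv
  have hvmem : ∀ x ∈ stabilizer G a ⊓ stabilizer G b, v * x * v ∈ stabilizer G a ⊓ stabilizer G b := by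
    intro x hx
    obtain ⟨hxa, hxb⟩ := Subgroup.mem_inf.1 hx
    refine Subgroup.mem_inf.2 ⟨?_, ?_⟩ <;> rw [mem_stabilizer_iff, mul_smul, mul_smul]
    · rw [hva, mem_stabilizer_iff.1 hxb, hvb]
    · rw [hvb, mem_stabilizer_iff.1 hxa, hva]
  obtain ⟨⟨c, hc⟩⟩ : Nonempty {x : Ω // v • x = x} := by
    rw [← not_isEmpty_iff]
    intro he
    have := odd_fixed hodd (show v ^ 2 = 1 by rw [pow_two, hv])
    rw [Nat.card_of_isEmpty] at this
    simp at this
  have hca : c ≠ a := fun e => hab (by rw [← hva, ← e, hc])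
  have hcb : c ≠ b := fun e => hab (by rw [← hvb, ← e, hc])
  have huniq : ∀ x : Ω, v • x = x → x = c := by
    intro x hx
    by_contra hne
    have : 2 < Nat.card {y : Ω // v • y = y} := by
      have hodd' := odd_fixed hodd (show v ^ 2 = 1 by rw [pow_two, hv])
      have hle : 1 < Nat.card {y : Ω // v • y = y} :=
        Finite.one_lt_card_iff_nontrivial.2 ⟨⟨x, hx⟩, ⟨c, hc⟩, fun e => hne (congrArg Subtype.val e)⟩
      rw [Nat.odd_iff] at hodd'
      omega
    let _ := Fintype.ofFinite {y : Ω // v • y = y}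
    rw [Nat.card_eq_fintype_card] at this
    obtain ⟨p, q, r, hpq, hpr, hqr⟩ := Fintype.two_lt_card_iff.1 this
    have := h3 v p q r (fun e => hpq (Subtype.ext e)) (fun e => hqr (Subtype.ext e))
      (fun e => hpr (Subtype.ext e)) p.2 q.2 r.2
    rw [this, one_smul] at hva
    exact hab hva
  let f : ↥(stabilizer G a ⊓ stabilizer G b) → ↥(stabilizer G a ⊓ stabilizer G b) := fun x =>
    ⟨(x : G)⁻¹ * (v * x * v), mul_mem (inv_mem x.2) (hvmem x x.2)⟩
  have hinj : Function.Injective f := by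
    intro x y e
    have e' : (x : G)⁻¹ * (v * x * v) = (y : G)⁻¹ * (v * y * v) := congrArg Subtype.val e
    let z : G := (y : G) * (x : G)⁻¹
    have hz : z * v = v * z := by
      calc z * v = (y : G) * ((x : G)⁻¹ * (v * x * v)) * (v⁻¹ * (x : G)⁻¹) := by
            simp only [z]; group
        _ = _ := by rw [e']; simp only [z]; group
    obtain ⟨hza, hzb⟩ := Subgroup.mem_inf.1 (mul_mem y.2 (inv_mem x.2) : z ∈ _)
    have hzc : z • c = c := huniq _ (by rw [← mul_smul, ← hz, mul_smul, hc])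
    exact Subtype.ext (mul_inv_eq_one.1 (h3 z a b c hab hcb.symm hca.symm hza hzb hzc)).symm
  intro h hh
  obtain ⟨x, e⟩ := Finite.injective_iff_surjective.1 hinj ⟨h, hh⟩
  have e' : (x : G)⁻¹ * (v * x * v) = h := congrArg Subtype.val e
  subst e'
  refine ⟨?_, x, x.2, by group⟩
  calc v * ((x : G)⁻¹ * (v * x * v)) * v = v * (x : G)⁻¹ * v * x * (v * v) := by group
    _ = v⁻¹ * (x : G)⁻¹ * v⁻¹ * x := by rw [hvinv, hv, mul_one]
    _ = _ := by group

theorem exists_swap_in [Finite G] {a b : Ω} (hab : a ≠ b) (N : Subgroup G)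
    (h2 : IsMultiplyPretransitive N Ω 2)
    (hodd : Odd (Nat.card ↥(stabilizer G a ⊓ stabilizer G b))) :
    ∃ v ∈ N, v * v = 1 ∧ v • a = b ∧ v • b = a := by
  obtain ⟨⟨s, hs⟩, hsa, hsb⟩ := is_two_pretransitive_iff.1 h2 hab hab.symm
  have hsa' : s • a = b := hsa
  have hsb' : s • b = a := hsb
  have hss : s * s ∈ stabilizer G a ⊓ stabilizer G b :=
    Subgroup.mem_inf.2 ⟨by rw [mem_stabilizer_iff, mul_smul, hsa', hsb'],
      by rw [mem_stabilizer_iff, mul_smul, hsb', hsa']⟩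
  obtain ⟨k, hk⟩ := hodd.of_dvd_nat (Subgroup.orderOf_mk (s * s) hss ▸
    orderOf_dvd_natCard (⟨s * s, hss⟩ : ↥(stabilizer G a ⊓ stabilizer G b)))
  have hpow : (s * s) ^ k ∈ stabilizer G a ⊓ stabilizer G b := pow_mem hss k
  have e : s ^ (2 * k + 1) = s * (s * s) ^ k := by rw [pow_succ', pow_mul, pow_two]
  refine ⟨_, pow_mem hs (2 * k + 1), ?_, ?_, ?_⟩
  · have e1 : s ^ (2 * k + 1) * s ^ (2 * k + 1) = (s * s) ^ (2 * k + 1) := by
      rw [← pow_add, ← two_mul, pow_mul, pow_two]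
    rw [e1, ← hk, pow_orderOf_eq_one]
  · rw [e, mul_smul, mem_stabilizer_iff.1 (Subgroup.mem_inf.1 hpow).1, hsa']
  · rw [e, mul_smul, mem_stabilizer_iff.1 (Subgroup.mem_inf.1 hpow).2, hsb']

theorem isSimpleGroup_of_odd [Fintype Ω] (hZ : Cfsg.IsZassenhausGroup G Ω)
    (hodd : Odd (Fintype.card Ω)) : IsSimpleGroup G := by
  rw [← Nat.card_eq_fintype_card] at hodd
  obtain ⟨hF, h2, h3, ⟨g₀, hg₀, a, b, hab, -, -⟩, -⟩ := id hZ
  have : Finite G := finite_of_faithful (Ω := Ω)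
  have : Nontrivial G := ⟨g₀, 1, hg₀⟩
  refine ⟨fun N hN => or_iff_not_imp_left.2 fun hne => ?_⟩
  have h2N := normal_two_pretransitive hZ N hne
  obtain ⟨v, hvN, hv, hva, hvb⟩ := exists_swap_in hab N h2N (card_stab_two_odd h3 hodd hab)
  rw [eq_top_iff]
  intro g _
  have hgab : g • a ≠ g • b := fun e => hab (smul_left_cancel g e)
  obtain ⟨⟨n, hn⟩, hna, hnb⟩ := is_two_pretransitive_iff.1 h2N hab hgab
  have hna' : n • a = g • a := hna
  have hnb' : n • b = g • b := hnb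
  obtain ⟨-, x, -, hx⟩ := inverts_of_swap h3 hodd hab hv hva hvb (n⁻¹ * g) (Subgroup.mem_inf.2
    ⟨by rw [mem_stabilizer_iff, mul_smul, ← hna', inv_smul_smul],
      by rw [mem_stabilizer_iff, mul_smul, ← hnb', inv_smul_smul]⟩)
  have : n⁻¹ * g ∈ N := by
    rw [hx]
    exact mul_mem (by simpa using hN.conj_mem v hvN x⁻¹) hvN
  simpa using mul_mem hn this

end Cfsg.Agent.Lib.Zassenhaus
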