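import Mathlib
import Cfsg.Agent.Lib.Frobenius.FPF
import Cfsg.Agent.Lib.PUnique.Basic

/-!
# Semilinear groups of prime degree over the field of two elements

A group which acts regularly on the non-trivial elements of an abelian group `V`, together with a
compatible automorphism of prime order `r` fixing only one non-trivial element, forces
`|V| = 2 ^ r`.
-/

set_option autoImplicit false

namespace Cfsg.Agent.Lib.Zassenhaus.RegularDegree

/-- A Z-group with a fixed-point-free automorphism is abelian. -/
theorem mul_comm_of_fpf_aut {K : Type*} [Group K] [Finite K] [IsZGroup K] (σ : K ≃* K)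
    (hσ : ∀ k, σ k = k → k = 1) (a b : K) : a * b = b * a := by
  have hC : IsCyclic (commutator K) := IsZGroup.isCyclic_commutator K
  have hmem : ∀ k c, c ∈ commutator K → k * c * k⁻¹ ∈ commutator K := fun k c hc =>
    (inferInstance : (commutator K).Normal).conj_mem c hc k
  have hσC : ∀ c ∈ commutator K, σ c ∈ commutator K := by
    intro c hc
    have := Subgroup.Characteristic.fixed (H := commutator K) inferInstance σ
    rw [← this] at hc
    exact Subgroup.mem_comap.1 hc
  have hσC' : ∀ c ∈ commutator K, σ.symm c ∈ commutator K := by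
    intro c hc
    have := Subgroup.Characteristic.fixed (H := commutator K) inferInstance σ.symm
    rw [← this] at hc
    exact Subgroup.mem_comap.1 hc
  -- an element and its image act in the same way on the commutator subgroup
  have hsame : ∀ k : K, ∀ c ∈ commutator K, σ k * c * (σ k)⁻¹ = k * c * k⁻¹ := by
    intro k c hc
    let f : commutator K →* commutator K := (MulAut.conjNormal k : MulAut (commutator K)).toMonoidHom
    obtain ⟨m, hm⟩ := MonoidHom.map_cyclic f
    have hm' : ∀ d ∈ commutator K, k * d * k⁻¹ = d ^ m := fun d hd => by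
      have := congrArg Subtype.val (hm ⟨d, hd⟩)
      simpa [f] using this
    rw [hm' c hc]
    have := congrArg σ (hm' (σ.symm c) (hσC' c hc))
    simpa using this
  have hcent : commutator K ≤ Subgroup.center K := by
    intro c hc
    rw [Subgroup.mem_center_iff]
    intro g
    have hinj : Function.Injective fun k : K => k⁻¹ * σ k := by
      intro k l e
      have e' : σ (l * k⁻¹) = l * k⁻¹ := by
        rw [map_mul, map_inv]
        calc σ l * (σ k)⁻¹ = l * (l⁻¹ * σ l) * (σ k)⁻¹ := by group
          _ = l * (k⁻¹ * σ k) * (σ k)⁻¹ := by rw [show l⁻¹ * σ l = k⁻¹ * σ k from e.symm]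
          _ = l * k⁻¹ := by group
      exact (mul_inv_eq_one.1 (hσ _ e')).symm
    obtain ⟨k, rfl⟩ := Finite.surjective_of_injective hinj g
    have h := hsame k c hc
    have h' : k⁻¹ * (σ k * c * (σ k)⁻¹) * k = c := by rw [h]; group
    calc k⁻¹ * σ k * c = (k⁻¹ * (σ k * c * (σ k)⁻¹) * k) * (k⁻¹ * σ k) := by group
      _ = c * (k⁻¹ * σ k) := by rw [h']
  have : Group.IsNilpotent K := by
    refine isNilpotent_of_ker_le_center (Abelianization.of (G := K)) ?_
    rw [Abelianization.ker_of]
    exact hcent
  have : IsCyclic K := inferInstance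
  exact mul_comm' a b

/-- A group acting fixed-point-freely on a finite abelian group is a Z-group if its order is
odd. -/
theorem isZGroup_of_fpf {K V : Type*} [Group K] [Finite K] [CommGroup V] [Finite V] [Nontrivial V]
    [MulDistribMulAction K V] (hf : Frobenius.FPF.IsFPF K V) (hodd : Odd (Nat.card K)) :
    IsZGroup K := by
  refine ⟨fun p hp P => ?_⟩
  have : Fact p.Prime := ⟨hp⟩
  have huniq : ∀ U W : Subgroup P, Nat.card U = p → Nat.card W = p → U = W := by
    intro U W hU hW
    have hP1 : Nontrivial P := by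
      refine Finite.one_lt_card_iff_nontrivial.mp (lt_of_lt_of_le ?_ U.card_le_card_group)
      rw [hU]; exact hp.one_lt
    obtain ⟨⟨z, hz⟩, hzo⟩ := exists_prime_orderOf_dvd_card' (G := Subgroup.center P) p (by
      obtain ⟨n, hn, hcard⟩ := (P.isPGroup'.to_subgroup (Subgroup.center P)).nontrivial_iff_card.mp
        P.isPGroup'.center_nontrivial
      rw [hcard]; exact dvd_pow_self p hn.ne')
    rw [Subgroup.orderOf_mk] at hzo
    have key : ∀ S : Subgroup P, Nat.card S = p → S = Subgroup.zpowers z := by
      intro S hS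
      refine Subgroup.eq_of_le_of_card_ge (fun x hx => ?_) (by rw [Nat.card_zpowers, hzo, hS])
      have hxp : x ^ p = 1 := by
        have := pow_card_eq_one' (x := (⟨x, hx⟩ : S))
        rw [hS] at this
        exact congrArg Subtype.val this
      have hzp : z ^ p = 1 := orderOf_dvd_iff_pow_eq_one.1 (dvd_of_eq hzo)
      have hz1 : (z : K) ≠ 1 := by
        intro e
        rw [Subtype.ext (a1 := z) (a2 := 1) e, orderOf_one] at hzo
        exact hp.ne_one hzo.symm
      have hc : Commute (x : K) (z : K) := congrArg Subtype.val (Subgroup.mem_center_iff.1 hz x)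
      obtain ⟨i, hi⟩ := Frobenius.FPF.mem_zpowers_of_commute hf hp (congrArg Subtype.val hxp)
        (congrArg Subtype.val hzp) hz1 hc
      exact ⟨i, Subtype.ext (by simpa using hi)⟩
    rw [key U hU, key W hW]
  rcases PUnique.isCyclic_or_quaternion P.isPGroup' huniq with h | ⟨rfl, -⟩
  · exact h
  · obtain ⟨n, hn⟩ := P.isPGroup'.exists_card_eq
    rcases Nat.eq_zero_or_pos n with rfl | hn0
    · rw [pow_zero] at hn
      have : Subsingleton (P : Subgroup K) := (Nat.card_eq_one_iff_unique.1 hn).1
      exact isCyclic_of_subsingleton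
    · exfalso
      have h2 : 2 ∣ Nat.card K := (dvd_pow_self 2 hn0.ne').trans (by
        rw [← hn]; exact Subgroup.card_subgroup_dvd_card _)
      exact (Nat.not_even_iff_odd.2 hodd) (even_iff_two_dvd.2 h2)

section Field

variable {A : Type*} [AddCommGroup A]

/-- Conjugation by an automorphism, on the endomorphism ring. -/
def conjEnd (t : A ≃+ A) : AddMonoid.End A ≃+* AddMonoid.End A where
  toFun f := t.toAddMonoidHom.comp (f.comp t.symm.toAddMonoidHom)
  invFun f := t.symm.toAddMonoidHom.comp (f.comp t.toAddMonoidHom)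
  left_inv f := AddMonoidHom.ext fun x => by
    show t.symm (t (f (t.symm (t x)))) = f x
    rw [t.symm_apply_apply, t.symm_apply_apply]
  right_inv f := AddMonoidHom.ext fun x => by
    show t (t.symm (f (t (t.symm x)))) = f x
    rw [t.apply_symm_apply, t.apply_symm_apply]
  map_mul' f g := AddMonoidHom.ext fun x => by
    show t (f (g (t.symm x))) = t (f (t.symm (t (g (t.symm x)))))
    rw [t.symm_apply_apply]
  map_add' f g := AddMonoidHom.ext fun x => by
    show t (f (t.symm x) + g (t.symm x)) = t (f (t.symm x)) + t (g (t.symm x))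
    rw [map_add]

theorem conjEnd_apply (t : A ≃+ A) (f : AddMonoid.End A) (x : A) :
    conjEnd t f x = t (f (t.symm x)) := rfl

/-- The field spanned by a commutative regular group of automorphisms, with a semilinear
automorphism of prime order fixing just one non-zero element. -/
theorem card_eq_two_pow [Finite A] {K : Type*} [Group K] (φ : K →* AddMonoid.End A)
    (hcomm : ∀ k l : K, k * l = l * k) (σ : K → K) (t : A ≃+ A)
    (hsemi : ∀ k x, t (φ k x) = φ (σ k) (t x)) (htrans : ∀ x y : A, x ≠ 0 → y ≠ 0 → ∃ k, φ k x = y)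
    {n : A} (hn : n ≠ 0) (htn : t n = n) (hfix : ∀ x : A, t x = x → x = 0 ∨ x = n)
    (hσ : ∃ x : A, t x ≠ x) {r : ℕ} (hr : r.Prime) (htr : ∀ x : A, t^[r] x = x) :
    Nat.card A = 2 ^ r := by
  classical
  let S : Subring (AddMonoid.End A) := Subring.closure (Set.range φ)
  let _ : CommRing S := Subring.closureCommRingOfComm (by
    rintro _ ⟨k, rfl⟩ _ ⟨l, rfl⟩
    rw [← map_mul, ← map_mul, hcomm])
  have hfinE : Finite (AddMonoid.End A) := Finite.of_injective (fun f : AddMonoid.End A => (f : A → A))
    DFunLike.coe_injective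
  have hφ : ∀ k, φ k ∈ S := fun k => Subring.subset_closure ⟨k, rfl⟩
  have hcommS : ∀ (f : S) (g : S) (x : A), (f : AddMonoid.End A) ((g : AddMonoid.End A) x) =
      (g : AddMonoid.End A) ((f : AddMonoid.End A) x) := fun f g x =>
    DFunLike.congr_fun (congrArg Subtype.val (mul_comm f g)) x
  have hinj : ∀ f : S, (∃ x : A, x ≠ 0 ∧ (f : AddMonoid.End A) x = 0) → f = 0 := by
    rintro f ⟨x, hx, hfx⟩
    refine Subtype.ext (AddMonoidHom.ext fun y => ?_)
    rcases eq_or_ne y 0 with rfl | hy
    · exact (map_zero _).trans (map_zero _).symm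
    · obtain ⟨k, rfl⟩ := htrans x y hx hy
      show (f : AddMonoid.End A) (φ k x) = 0
      rw [hcommS f ⟨φ k, hφ k⟩ x]
      show φ k ((f : AddMonoid.End A) x) = 0
      rw [hfx, map_zero]
  have hdom : IsDomain S := by
    have : Nontrivial S := ⟨0, 1, fun e => hn (DFunLike.congr_fun (congrArg Subtype.val e) n).symm⟩
    have : NoZeroDivisors S := ⟨fun {f g} e => by
      by_contra hc
      push Not at hc
      have hgn : (g : AddMonoid.End A) n ≠ 0 := fun e' => hc.2 (hinj g ⟨n, hn, e'⟩)
      exact hc.1 (hinj f ⟨_, hgn, DFunLike.congr_fun (congrArg Subtype.val e) n⟩)⟩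
    exact NoZeroDivisors.to_isDomain S
  have hfinS : Fintype S := Fintype.ofFinite S
  let _ : Field S := Fintype.fieldOfDomain S
  have hbij : Function.Bijective fun f : S => (f : AddMonoid.End A) n := by
    refine ⟨fun f g e => ?_, fun x => ?_⟩
    · have : f - g = 0 := hinj _ ⟨n, hn, by
        show ((f : AddMonoid.End A) - (g : AddMonoid.End A)) n = 0
        exact sub_eq_zero.2 e⟩
      exact sub_eq_zero.1 this
    · rcases eq_or_ne x 0 with rfl | hx
      · exact ⟨0, rfl⟩
      · obtain ⟨k, hk⟩ := htrans n x hn hx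
        exact ⟨⟨φ k, hφ k⟩, hk⟩
  have hmap : ∀ f ∈ S, conjEnd t f ∈ S := by
    intro f hf
    induction hf using Subring.closure_induction with
    | mem f hf =>
      obtain ⟨k, rfl⟩ := hf
      have : conjEnd t (φ k) = φ (σ k) := AddMonoidHom.ext fun x => by
        show t (φ k (t.symm x)) = φ (σ k) x
        rw [hsemi, AddEquiv.apply_symm_apply]
      rw [this]; exact hφ _
    | zero => rw [map_zero]; exact zero_mem _
    | one => rw [map_one]; exact one_mem _
    | add f g _ _ hf hg => rw [map_add]; exact add_mem hf hg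
    | neg f _ hf => rw [map_neg]; exact neg_mem hf
    | mul f g _ _ hf hg => rw [map_mul]; exact mul_mem hf hg
  let e₀ : S →+* S := ((conjEnd t).toRingHom.comp S.subtype).codRestrict S fun f => hmap f f.2
  have he₀ : Function.Bijective e₀ := Finite.injective_iff_bijective.1 fun f g e =>
    Subtype.ext ((conjEnd t).injective (congrArg Subtype.val e))
  let e : RingAut S := RingEquiv.ofBijective e₀ he₀
  have he : ∀ (f : S) (x : A), (e f : AddMonoid.End A) (t x) = t ((f : AddMonoid.End A) x) := by
    intro f x
    show conjEnd t (f : AddMonoid.End A) (t x) = _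
    rw [conjEnd_apply, AddEquiv.symm_apply_apply]
  have hpow : ∀ (i : ℕ) (f : S) (x : A),
      ((e ^ i) f : AddMonoid.End A) (t^[i] x) = t^[i] ((f : AddMonoid.End A) x) := by
    intro i
    induction i with
    | zero => intro f x; rfl
    | succ i ih =>
      intro f x
      rw [pow_succ', Function.iterate_succ_apply', Function.iterate_succ_apply', RingAut.mul_apply,
        he, ih]
  have her : e ^ r = 1 := RingEquiv.ext fun f => Subtype.ext (AddMonoidHom.ext fun x => by
    have := hpow r f x
    rw [htr, htr] at this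
    exact this)
  have he1 : e ≠ 1 := by
    intro h1
    obtain ⟨x, hx⟩ := hσ
    obtain ⟨f, rfl⟩ := hbij.2 x
    refine hx ?_
    show t ((f : AddMonoid.End A) n) = (f : AddMonoid.End A) n
    rw [← he, h1, htn]; rfl
  have : Fact r.Prime := ⟨hr⟩
  have hord : orderOf e = r := orderOf_eq_prime her he1
  let Γ := Subgroup.zpowers e
  have : Finite Γ := Nat.finite_of_card_ne_zero (by
    rw [Nat.card_zpowers, hord]; exact hr.ne_zero)
  let _ : Fintype Γ := Fintype.ofFinite Γ
  have hΓ : Fintype.card Γ = r := by rw [← Nat.card_eq_fintype_card, Nat.card_zpowers, hord]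
  have hdeg := FixedPoints.finrank_eq_card Γ S
  have hcard := Module.natCard_eq_pow_finrank (K := FixedPoints.subfield Γ S) (V := S)
  rw [hdeg, hΓ, Nat.card_eq_of_bijective _ hbij] at hcard
  rw [hcard]
  congr 1
  have hmemF : ∀ f : S, f ∈ FixedPoints.subfield Γ S ↔ f = 0 ∨ f = 1 := by
    intro f
    refine ⟨fun hf => ?_, ?_⟩
    · have hef : e f = f := hf ⟨e, Subgroup.mem_zpowers e⟩
      have : t ((f : AddMonoid.End A) n) = (f : AddMonoid.End A) n := by
        rw [← he, hef, htn]
      rcases hfix _ this with h0 | h0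
      · exact Or.inl (hbij.1 h0)
      · exact Or.inr (hbij.1 h0)
    · rintro (rfl | rfl)
      · exact zero_mem _
      · exact one_mem _
  rw [Nat.card_eq_two_iff]
  refine ⟨0, 1, zero_ne_one, ?_⟩
  refine Set.eq_univ_of_forall fun ⟨f, hf⟩ => ?_
  rcases (hmemF f).1 hf with rfl | rfl
  · exact Or.inl rfl
  · exact Or.inr rfl

end Field

end Cfsg.Agent.Lib.Zassenhaus.RegularDegree
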